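import Cfsg.Agent.Lib.SpFourEven.Defs
import Cfsg.Agent.Lib.CIT.Defs

/-!
# Without transvections and short root involutions the group is a CIT group
-/

set_option autoImplicit false
set_option linter.unusedSectionVars false

namespace Cfsg.Agent.SpFourEven

open Matrix Cfsg.Agent.Aschbacher Cfsg.Agent.Forms.SympStd Cfsg.Agent.Forms.Max

variable {F : Type*} [Field F] [Fintype F] [CharP F 2]

local notation "GL4" => GL (Fin 2 ⊕ Fin 2) F
local notation "Vec" => (Fin 2 ⊕ Fin 2 → F)
local notation "B" => sympB 2 F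
local notation "Mat" => Matrix (Fin 2 ⊕ Fin 2) (Fin 2 ⊕ Fin 2) F

theorem symm_B (u v : Vec) : B u v = B v u := by
  rw [Symp.B_swap v u, CharTwo.neg_eq]

/-- the odd part of the centraliser of an involution of rank two that is not short is trivial -/
theorem eq_one_of_commute {t h : GL4} (hts : t ∈ Cfsg.spGL 2 F) (hhs : h ∈ Cfsg.spGL 2 F)
    (ht : t * t = 1) (ht1 : t ≠ 1) (hnt : ∀ (u : Vec) (c : F), u ≠ 0 → c ≠ 0 → t ≠ spTrv u c)
    (hns : ¬ IsShort t) (hc : h * t = t * h) (ho : Odd (orderOf h)) : h = 1 := by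
  classical
  have h2 : (2 : F) = 0 := CharTwo.two_eq_zero
  let N : Vec →ₗ[F] Vec := Matrix.toLin' ((t : Mat) + 1)
  let H : Vec →ₗ[F] Vec := Matrix.toLin' (h : Mat)
  have hN : ∀ v, N v = (t : Mat) *ᵥ v + v := fun v => by
    simp [N, Matrix.add_mulVec]
  have hH : ∀ v, H v = (h : Mat) *ᵥ v := fun v => rfl
  have htt : ∀ v, (t : Mat) *ᵥ ((t : Mat) *ᵥ v) = v := fun v => by
    rw [Matrix.mulVec_mulVec, ← Units.val_mul, ht, Units.val_one, one_mulVec]
  have hNN : ∀ v, N (N v) = 0 := fun v => by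
    rw [hN, hN, mulVec_add, htt, add_comm v, CharTwo.add_self_eq_zero]
  have hadj : ∀ u v, B (N u) v = B u (N v) := fun u v => by
    rw [hN, hN, map_add, map_add, LinearMap.add_apply]
    congr 1
    calc B ((t : Mat) *ᵥ u) v = B ((t : Mat) *ᵥ u) ((t : Mat) *ᵥ ((t : Mat) *ᵥ v)) := by rw [htt]
      _ = B u ((t : Mat) *ᵥ v) := Symp.mem_spGL_iff.1 hts _ _
  have hsymm : ∀ u v, B u (N v) = B v (N u) := fun u v => by rw [← hadj, symm_B]
  have hHN : ∀ v, H (N v) = N (H v) := fun v => by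
    rw [hH, hH, hN, hN, mulVec_add, Matrix.mulVec_mulVec, Matrix.mulVec_mulVec, ← Units.val_mul,
      ← Units.val_mul, hc]
  have hHB : ∀ u v, B (H u) (H v) = B u v := fun u v => Symp.mem_spGL_iff.1 hhs u v
  -- the rank is two
  set U := LinearMap.range N with hU
  set W := LinearMap.ker N with hW
  have hUW : U ≤ W := by
    rintro _ ⟨v, rfl⟩
    exact hNN v
  have hdim := LinearMap.finrank_range_add_finrank_ker N
  rw [show Module.finrank F Vec = 4 by simp, ← hU, ← hW] at hdim
  have hU0 : Module.finrank F U ≠ 0 := by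
    intro e
    rw [Submodule.finrank_eq_zero] at e
    refine ht1 (gl_ext fun v => ?_)
    have h0 : N v ∈ U := LinearMap.mem_range_self N v
    rw [e, Submodule.mem_bot, hN, CharTwo.add_eq_zero] at h0
    rw [h0, Units.val_one, one_mulVec]
  have hU1 : Module.finrank F U ≠ 1 := by
    intro e
    obtain ⟨u₀, hu₀, hall⟩ := finrank_eq_one_iff'.1 e
    set u : Vec := (u₀ : Vec) with hudef
    have hu : u ≠ 0 := fun e0 => hu₀ (Subtype.ext e0)
    have hf : ∀ v, ∃ c : F, N v = c • u := fun v => by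
      obtain ⟨c, hc'⟩ := hall ⟨N v, LinearMap.mem_range_self N v⟩
      exact ⟨c, (congrArg Subtype.val hc').symm⟩
    choose f hf' using hf
    obtain ⟨x₀, hx₀⟩ : ∃ x₀, B x₀ u ≠ 0 := by
      by_contra hc'
      push Not at hc'
      exact hu (Symp.nondeg.2 u hc')
    have hfB : ∀ v, f v = (f x₀ / B x₀ u) * B v u := fun v => by
      have h1 := hsymm x₀ v
      rw [hf', hf', map_smul, map_smul, smul_eq_mul, smul_eq_mul] at h1
      field_simp
      linear_combination h1
    have hc0 : f x₀ / B x₀ u ≠ 0 := by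
      intro e0
      obtain ⟨v, hv⟩ := LinearMap.mem_range.1 u₀.2
      exact hu (by rw [hudef, ← hv, hf', hfB, e0, zero_mul, zero_smul])
    refine hnt u (f x₀ / B x₀ u) hu hc0 (gl_ext fun v => ?_)
    rw [Symp.spTrv_apply, ← hfB, ← hf', hN, add_comm, add_assoc, CharTwo.add_self_eq_zero, add_zero]
  have hU2 : Module.finrank F U = 2 := by
    have := Submodule.finrank_mono hUW
    omega
  have hWU : U = W := Submodule.eq_of_le_of_finrank_eq hUW (by omega)
  -- the vector `z`
  have hq : ∀ u v, B (u + v) (N (u + v)) = B u (N u) + B v (N v) := fun u v => by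
    rw [map_add, map_add, LinearMap.add_apply, map_add (B v), map_add (B u), hsymm v u]
    linear_combination B u (N v) * h2
  let σ : F ≃+* F := frobeniusEquiv F 2
  have hσ : ∀ x, σ x = x ^ 2 := fun x => by simp [σ, frobeniusEquiv_apply, frobenius_def]
  let φ : Vec →ₗ[F] F :=
    { toFun := fun v => σ.symm (B v (N v))
      map_add' := fun u v => by rw [hq, map_add]
      map_smul' := fun c v => σ.injective (by
        simp only [RingEquiv.apply_symm_apply, RingHom.id_apply, smul_eq_mul, map_mul, map_smul,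
          LinearMap.smul_apply]
        rw [hσ]
        ring) }
  have hφ : ∀ v, φ v ^ 2 = B v (N v) := fun v => by
    show (σ.symm (B v (N v))) ^ 2 = _
    rw [← hσ, RingEquiv.apply_symm_apply]
  obtain ⟨z, hz⟩ : ∃ z, ∀ v, B v z = φ v :=
    ⟨(LinearMap.BilinForm.toDual B Symp.nondeg).symm φ, fun v => by
      rw [symm_B, LinearMap.BilinForm.apply_toDual_symm_apply]⟩
  have hz0 : z ≠ 0 := by
    intro e
    refine hns ⟨ht, ht1, fun x => ?_⟩
    have h1 := hφ x
    rw [← hz, e, map_zero, zero_pow two_ne_zero, hN, map_add, Symp.B_self, add_zero] at h1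
    exact h1.symm
  -- `h` fixes `z`
  have hHz : H z = z := by
    refine (sub_eq_zero.1 (Symp.nondeg.2 (H z - z) fun w => ?_))
    obtain ⟨v, rfl⟩ : ∃ v, H v = w := ⟨((h⁻¹ : GL4) : Mat) *ᵥ w, by
      rw [hH, Matrix.mulVec_mulVec, ← Units.val_mul, mul_inv_cancel, Units.val_one, one_mulVec]⟩
    rw [map_sub, hHB, hz, hz, sub_eq_zero]
    refine σ.injective ?_
    rw [hσ, hσ, hφ, hφ, ← hHN, hHB]
  -- the hyperplane orthogonal to `z`
  set Z := LinearMap.ker φ with hZ
  have hWZ : W ≤ Z := fun v hv => by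
    rw [hZ, LinearMap.mem_ker]
    have h1 := hφ v
    rw [LinearMap.mem_ker.1 hv, map_zero] at h1
    exact eq_zero_of_pow_eq_zero h1
  have hφ0 : φ ≠ 0 := fun e => hz0 (Symp.nondeg.2 z fun v => by rw [hz, e, LinearMap.zero_apply])
  have hZdim : Module.finrank F Z = 3 := by
    have h1 := LinearMap.finrank_range_add_finrank_ker φ
    rw [LinearMap.range_eq_top.2 (LinearMap.surjective hφ0), finrank_top, Module.finrank_self,
      show Module.finrank F Vec = 4 by simp, ← hZ] at h1
    omega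
  obtain ⟨v₀, hv₀, hv₀W⟩ : ∃ v₀ ∈ Z, v₀ ∉ W := by
    by_contra hc'
    push Not at hc'
    have := Submodule.finrank_mono (show Z ≤ W from hc')
    omega
  have hspan : W ⊔ Submodule.span F {v₀} = Z := by
    refine Submodule.eq_of_le_of_finrank_le (sup_le hWZ (by simpa using hv₀)) ?_
    have hlt : W < W ⊔ Submodule.span F {v₀} := lt_of_le_of_ne le_sup_left fun e =>
      hv₀W (e ▸ Submodule.mem_sup_right (Submodule.mem_span_singleton_self v₀))
    have := Submodule.finrank_lt_finrank_of_lt hlt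
    omega
  have hzero : ∀ u ∈ Z, ∀ v ∈ Z, B u (N v) = 0 := by
    intro u hu v hv
    rw [← hspan] at hu hv
    obtain ⟨k, hk, a', ha', rfl⟩ := Submodule.mem_sup.1 hu
    obtain ⟨k', hk', b', hb', rfl⟩ := Submodule.mem_sup.1 hv
    obtain ⟨a, rfl⟩ := Submodule.mem_span_singleton.1 ha'
    obtain ⟨b, rfl⟩ := Submodule.mem_span_singleton.1 hb'
    have h0 : B v₀ (N v₀) = 0 := by rw [← hφ, LinearMap.mem_ker.1 hv₀, zero_pow two_ne_zero]
    have hk1 : ∀ x, B k (N x) = 0 := fun x => by rw [← hadj, LinearMap.mem_ker.1 hk, map_zero, LinearMap.zero_apply]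
    simp only [map_add, map_smul, LinearMap.add_apply, LinearMap.smul_apply, LinearMap.mem_ker.1 hk', hk1, h0,
      smul_eq_mul, mul_zero, add_zero, map_zero]
  have hline : ∀ v ∈ Z, N v ∈ Submodule.span F {z} := by
    intro v hv
    obtain ⟨x₁, hx₁⟩ := LinearMap.surjective hφ0 1
    refine Submodule.mem_span_singleton.2 ⟨B x₁ (N v), (sub_eq_zero.1 (Symp.nondeg.2 _ fun x => ?_)).symm⟩
    have hxZ : x - φ x • x₁ ∈ Z := by
      rw [hZ, LinearMap.mem_ker, map_sub, map_smul, hx₁, smul_eq_mul, mul_one, sub_self]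
    have h1 := hzero _ hxZ v hv
    simp only [map_sub, LinearMap.sub_apply, map_smul, LinearMap.smul_apply, smul_eq_mul] at h1
    rw [map_sub, map_smul, smul_eq_mul, hz]
    linear_combination h1
  let D : Vec →ₗ[F] Vec := H + LinearMap.id
  have hD : ∀ v, D v = H v + v := fun v => rfl
  have hDN : ∀ v, D (N v) = N (D v) := fun v => by rw [hD, hD, hHN, map_add]
  have hDz : D z = 0 := by rw [hD, hHz, CharTwo.add_self_eq_zero]
  have hDZ : ∀ v, D v ∈ Z := fun v => by
    rw [hZ, LinearMap.mem_ker, hD, map_add, ← hz, ← hz]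
    nth_rw 1 [← hHz]
    rw [hHB, CharTwo.add_self_eq_zero]
  have hD2N : ∀ v, D (D (N v)) = 0 := fun v => by
    rw [hDN v]
    obtain ⟨c, hc'⟩ := Submodule.mem_span_singleton.1 (hline _ (hDZ v))
    rw [← hc', map_smul, hDz, smul_zero]
  have hD4 : ∀ v, D (D (D (D v))) = 0 := fun v => by
    have h1 : N (D (D v)) = 0 := by rw [← hDN, ← hDN]; exact hD2N v
    have h3 : D (D v) ∈ U := hWU ▸ LinearMap.mem_ker.2 h1
    obtain ⟨w, hw⟩ := h3
    rw [← hw]
    exact hD2N w
  have hM : ((h : Mat) + 1) ^ 4 = 0 := Matrix.toLin'.injective (LinearMap.ext fun v => by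
    rw [map_zero, LinearMap.zero_apply, Matrix.toLin'_apply, pow_succ, pow_succ, pow_succ, pow_one,
      ← Matrix.mulVec_mulVec, ← Matrix.mulVec_mulVec, ← Matrix.mulVec_mulVec]
    simpa [hD, hH, Matrix.add_mulVec] using hD4 v)
  haveI : Fact (Nat.Prime 2) := ⟨Nat.prime_two⟩
  have h4 : ((h : Mat) + 1) ^ (2 ^ 2) = (h : Mat) ^ (2 ^ 2) + 1 ^ (2 ^ 2) :=
    add_pow_char_pow_of_commute 2 2 (Commute.one_right _)
  norm_num at h4
  rw [h4, CharTwo.add_eq_zero] at hM
  have h5 : h ^ 4 = 1 := Units.ext (by rw [Units.val_pow_eq_pow_val, hM, Units.val_one])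
  have hd := orderOf_dvd_of_pow_eq_one h5
  have hcop : Nat.Coprime (orderOf h) 4 := by
    rw [show (4 : ℕ) = 2 ^ 2 from rfl]
    exact Nat.Coprime.pow_right 2 (Nat.coprime_two_right.2 ho)
  exact orderOf_eq_one_iff.1 (Nat.eq_one_of_dvd_coprimes hcop dvd_rfl hd)

/-- without transvections and short root involutions the group is a CIT group -/
theorem isCIT {P : Subgroup GL4} (hC : Core P) (ht : ¬ HasTrv P) (hs : ¬ HasShort P) : CIT.IsCIT P := by
  intro t hto
  have hto' : orderOf (t : GL4) = 2 := by rw [Subgroup.orderOf_coe, hto]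
  have htt : (t : GL4) * t = 1 := by
    have h := pow_orderOf_eq_one (t : GL4)
    rwa [hto', sq] at h
  have ht1 : (t : GL4) ≠ 1 := fun e => by rw [e, orderOf_one] at hto'; exact absurd hto' (by norm_num)
  intro x
  have hfin : 0 < orderOf (x : P) := orderOf_pos _
  obtain ⟨a, b, hb, hab⟩ := Nat.exists_eq_two_pow_mul_odd hfin.ne'
  refine ⟨a, Subtype.ext ?_⟩
  rw [SubmonoidClass.coe_pow, OneMemClass.coe_one]
  have ho : orderOf ((x : P) ^ 2 ^ a) = b := by
    rw [orderOf_pow_of_dvd (by positivity) ⟨b, hab⟩, hab, Nat.mul_div_cancel_left _ (by positivity)]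
  have hcomm : ((x : P) ^ 2 ^ a) * t = t * (x : P) ^ 2 ^ a :=
    (Commute.pow_left (Subgroup.mem_centralizer_singleton_iff.1 x.2) _).eq
  refine Subtype.ext ?_
  refine eq_one_of_commute (hC.le t.2) (hC.le ((x : P) ^ 2 ^ a).2) htt ht1 (fun u c hu hc e => ht ⟨u, c, hu, hc, e ▸ t.2⟩)
    (fun e => hs ⟨_, t.2, e⟩) (congrArg Subtype.val hcomm) ?_
  rw [Subgroup.orderOf_coe, ho]
  exact hb

end Cfsg.Agent.SpFourEven
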