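import Cfsg.Agent.Lib.SpFourEven.Cit.PSLTwo.Plane
import Cfsg.Agent.Lib.SpFourEven.Cit.PSLTwo.Point
import Cfsg.Agent.Lib.Classical.Linear

/-!
# `L₂(2ⁿ)` without root involutions is not a residual subgroup of `Sp₄`
-/

set_option autoImplicit false
set_option linter.unusedSectionVars false

namespace Cfsg.Agent.SpFourEven

open Matrix Cfsg.Agent.Aschbacher Cfsg.Agent.Forms.SympStd Cfsg.Agent.Forms.Max

variable {F : Type*} [Field F] [Fintype F] [CharP F 2]

namespace PSLTwo

section Model

variable {K : Type} [Field K] [CharP K 2]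

local notation "SL2" => Matrix.SpecialLinearGroup (Fin 2) K

/-- The upper root element. -/
def upper (s : K) : SL2 := ⟨!![1, s; 0, 1], by simp [Matrix.det_fin_two]⟩

/-- The swapping element. -/
def swap : SL2 := ⟨!![0, 1; 1, 0], by
  rw [Matrix.det_fin_two]
  simp [CharTwo.neg_eq]⟩

theorem coe_upper (s : K) : (upper s : Matrix (Fin 2) (Fin 2) K) = !![1, s; 0, 1] := rfl

theorem coe_swap : ((swap : SL2) : Matrix (Fin 2) (Fin 2) K) = !![0, 1; 1, 0] := rfl

theorem upper_add (s r : K) : upper (s + r) = upper s * upper r := by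
  ext i j
  fin_cases i <;> fin_cases j <;> simp [Matrix.SpecialLinearGroup.coe_mul, coe_upper, Matrix.mul_apply, Fin.sum_univ_two, add_comm]

theorem upper_zero : upper (0 : K) = 1 := by
  ext i j
  fin_cases i <;> fin_cases j <;> simp [coe_upper]

theorem swap_sq : (swap : SL2) * swap = 1 := by
  ext i j
  fin_cases i <;> fin_cases j <;> simp [Matrix.SpecialLinearGroup.coe_mul, coe_swap, Matrix.mul_apply, Fin.sum_univ_two]

theorem braid (s : K) (hs : s ≠ 0) :
    upper s * (swap * upper s⁻¹ * swap) * upper s =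
      swap * upper s⁻¹ * swap * upper s * (swap * upper s⁻¹ * swap) := by
  ext i j
  fin_cases i <;> fin_cases j <;>
    simp [Matrix.SpecialLinearGroup.coe_mul, coe_upper, coe_swap, Matrix.mul_apply, Fin.sum_univ_two, hs, CharTwo.add_self_eq_zero]

theorem swap_eq : upper 1 * (swap * upper 1 * swap) * upper 1 = (swap : SL2) := by
  ext i j
  fin_cases i <;> fin_cases j <;>
    simp [Matrix.SpecialLinearGroup.coe_mul, coe_upper, coe_swap, Matrix.mul_apply, Fin.sum_univ_two, CharTwo.add_self_eq_zero]

theorem upper_mem_center {s : K} (h : upper s ∈ Subgroup.center SL2) : s = 0 := by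
  have e := Subgroup.mem_center_iff.1 h swap
  have := congrArg (fun g : SL2 => (g : Matrix (Fin 2) (Fin 2) K) 0 0) e
  simp [Matrix.SpecialLinearGroup.coe_mul, coe_upper, coe_swap, Matrix.mul_apply, Fin.sum_univ_two] at this
  exact this.symm

theorem upper_swap_gen (R : Subgroup SL2) (hu : ∀ s, upper s ∈ R) (hw : swap ∈ R) : R = ⊤ := by
  refine Classical.Linear.eq_top_of_transvection_mem _ fun i j hij c => ?_
  have h01 : ∀ (h : (0 : Fin 2) ≠ 1), Matrix.SpecialLinearGroup.transvection h c = upper c := by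
    intro h
    ext a b
    fin_cases a <;> fin_cases b <;>
      simp [Matrix.SpecialLinearGroup.coe_mul, coe_upper, Matrix.SpecialLinearGroup.transvection, Matrix.transvection, Matrix.single]
  have h10 : ∀ (h : (1 : Fin 2) ≠ 0),
      Matrix.SpecialLinearGroup.transvection h c = swap * upper c * swap := by
    intro h
    ext a b
    fin_cases a <;> fin_cases b <;>
      simp [Matrix.SpecialLinearGroup.coe_mul, coe_upper, coe_swap, Matrix.mul_apply, Fin.sum_univ_two, Matrix.SpecialLinearGroup.transvection,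
        Matrix.transvection, Matrix.single]
  fin_cases i <;> fin_cases j
  · exact absurd rfl hij
  · rw [h01]; exact hu c
  · rw [h10]; exact mul_mem (mul_mem hw (hu c)) hw
  · exact absurd rfl hij

end Model

/-- The root subgroups of a group isomorphic to `L₂(K)`. -/
theorem exists_gens {P : Subgroup (GL (Fin 2 ⊕ Fin 2) F)} {K : Type} [Field K] [CharP K 2]
    (e : P ≃* Matrix.ProjectiveSpecialLinearGroup (Fin 2) K) : Nonempty (Gens P K) := by
  let π : Matrix.SpecialLinearGroup (Fin 2) K →* P :=
    e.symm.toMonoidHom.comp (QuotientGroup.mk' _)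
  have hπ : Function.Surjective π := e.symm.surjective.comp (QuotientGroup.mk'_surjective _)
  let φ : Matrix.SpecialLinearGroup (Fin 2) K →* GL (Fin 2 ⊕ Fin 2) F := P.subtype.comp π
  have hgen : ∀ R : Subgroup (GL (Fin 2 ⊕ Fin 2) F), (∀ s, φ (upper s) ∈ R) → φ swap ∈ R → P ≤ R := by
    intro R hu hw g hg
    obtain ⟨a, ha⟩ := hπ ⟨g, hg⟩
    have h : a ∈ R.comap φ := by
      rw [upper_swap_gen (R.comap φ) hu hw]
      exact Subgroup.mem_top a
    have : φ a = g := congrArg Subtype.val ha
    exact this ▸ h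
  refine ⟨
    { u := fun s => φ (upper s)
      w := φ swap
      u_mem := fun s => (π _).2
      w_mem := (π _).2
      u_add := fun s r => by rw [upper_add, map_mul]
      u_ne := fun s hs h => hs (upper_mem_center ?_)
      u_sq := fun s => by
        rw [← map_mul, ← upper_add, CharTwo.add_self_eq_zero, upper_zero, map_one]
      w_sq := by rw [← map_mul, swap_sq, map_one]
      w_def := by simp only [← map_mul, swap_eq]
      braid := fun s hs => by simp only [← map_mul, braid s hs]
      gen := fun W hu hw g hg x hx => ?_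
      gen' := hgen }⟩
  · have h1 : π (upper s) = 1 := Subtype.ext h
    have h2 : QuotientGroup.mk' (Subgroup.center _) (upper s) = 1 := by
      have h3 := congrArg e h1
      rw [map_one] at h3
      exact (e.apply_symm_apply _).symm.trans h3
    exact (QuotientGroup.eq_one_iff _).1 h2
  · let R : Subgroup (GL (Fin 2 ⊕ Fin 2) F) :=
      { carrier := {g | (∀ y ∈ W, lin g y ∈ W) ∧ ∀ y ∈ W, lin g⁻¹ y ∈ W}
        one_mem' := ⟨fun y hy => by rw [lin_one]; exact hy,
          fun y hy => by rw [inv_one, lin_one]; exact hy⟩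
        mul_mem' := fun {a b} ha hb => ⟨fun y hy => by rw [lin_mul]; exact ha.1 _ (hb.1 y hy),
          fun y hy => by rw [_root_.mul_inv_rev, lin_mul]; exact hb.2 _ (ha.2 y hy)⟩
        inv_mem' := fun {a} ha => ⟨ha.2, by rw [inv_inv]; exact ha.1⟩ }
    have hinv : ∀ a : Matrix.SpecialLinearGroup (Fin 2) K, a * a = 1 → (φ a)⁻¹ = φ a := fun a ha =>
      inv_eq_of_mul_eq_one_right (by rw [← map_mul, ha, map_one])
    refine ((hgen R (fun s => ⟨hu s, ?_⟩) ⟨hw, ?_⟩) hg).1 x hx
    · rw [hinv _ (by rw [← upper_add, CharTwo.add_self_eq_zero, upper_zero])]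
      exact hu s
    · rw [hinv _ swap_sq]
      exact hw

end PSLTwo

open PSLTwo

/-- No `L₂(2ⁿ)` without root involutions is a residual subgroup. -/
theorem not_psl_two_even {P : Subgroup (GL (Fin 2 ⊕ Fin 2) F)} (hC : Core P) (hQ : NoQuad P)
    (_hT : FullTraces P) (ht : ¬ HasTrv P) (hs : ¬ HasShort P)
    (habs : Cfsg.Geo.ActsAbsolutelyIrreducibly (Cfsg.Geo.matrixSet P)) {K : Type} [Field K]
    [Fintype K] (n : ℕ) (hn : 2 ≤ n) (hK : Fintype.card K = 2 ^ n)
    (e : P ≃* Matrix.ProjectiveSpecialLinearGroup (Fin 2) K) : False := by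
  haveI := Fact.mk Nat.prime_two
  haveI : CharP K 2 := by
    obtain ⟨p, hp⟩ := CharP.exists K
    obtain ⟨m, hp', hc⟩ := FiniteField.card K p
    have h2 : p ∣ 2 ^ n := by rw [← hK, hc]; exact dvd_pow_self p m.ne_zero
    have : p = 2 := (Nat.prime_dvd_prime_iff_eq hp' Nat.prime_two).1 (hp'.dvd_of_dvd_pow h2)
    exact this ▸ hp
  obtain ⟨D⟩ := exists_gens e
  by_cases h : ∀ s : K, s ≠ 0 → LinearMap.ker (nil (D.u s)) = LinearMap.ker (nil (D.u 1))
  · exact not_plane hC ht habs D h
  · push Not at h
    obtain ⟨r, hr, hne⟩ := h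
    exact not_point hC hQ ht hs D hr hne

end Cfsg.Agent.SpFourEven
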