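import Cfsg.Agent.Lib.SpFourEven.Cit.SmallCore
import Cfsg.Agent.Lib.PSLThree.Rep.AltClasses
import Cfsg.Agent.S0254

/-!
# The small CIT groups do not occur in `Sp₄(F)`
-/

set_option autoImplicit false
set_option linter.unusedSectionVars false

namespace Cfsg.Agent.SpFourEven

open Matrix Equiv Cfsg.Agent.Aschbacher Cfsg.Agent.Forms.SympStd Cfsg.Agent.Forms.Max

variable {F : Type*} [Field F] [CharP F 2]

local notation "GL4" => GL (Fin 2 ⊕ Fin 2) F
local notation "Vec" => (Fin 2 ⊕ Fin 2 → F)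
local notation "Mat" => Matrix (Fin 2 ⊕ Fin 2) (Fin 2 ⊕ Fin 2) F

/-- a group with an element of prime order conjugate to many of its powers or their inverses does not embed -/
theorem false_of_many_powers {P : Subgroup GL4} (hC : Core P) {G : Type*} [Group G] (e : P ≃* G) {r : ℕ}
    (hr : r.Prime) (hr2 : r ≠ 2) {x : G} (hx1 : x ≠ 1) (hxr : x ^ r = 1) (A : Finset (ZMod r))
    (hA : ∀ a ∈ A, ∃ u : G, u * x * u⁻¹ = x ^ a.val ∨ u * x⁻¹ * u⁻¹ = x ^ a.val) (h5 : 5 ≤ A.card) : False := by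
  let φ : G →* GL4 := P.subtype.comp e.symm.toMonoidHom
  have hφ : Function.Injective φ := P.subtype_injective.comp e.symm.injective
  have h : φ x = 1 := eq_one_of_many_powers (hC.le (e.symm x).2) hr hr2 (by rw [← map_pow, hxr, map_one]) A
    (fun a ha => by
      obtain ⟨u, hu⟩ := hA a ha
      refine ⟨φ u, hu.imp (fun h => ?_) fun h => ?_⟩ <;>
        simp only [← map_inv, ← map_mul, ← map_pow, h]) h5
  exact hx1 (hφ (h.trans (map_one φ).symm))

theorem five_le_signed_squares {r : ℕ} [Fact r.Prime] (h7 : 7 ≤ r) :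
    5 ≤ ((Finset.univ : Finset (ZMod r)).filter fun b => ∃ a : ZMod r, a ≠ 0 ∧ (b = a ^ 2 ∨ b = -a ^ 2)).card := by
  have hr : r.Prime := Fact.out
  by_cases h11 : 11 ≤ r
  · refine le_trans ?_ (Finset.card_le_card (show (Finset.Icc 1 5).image (fun i : ℕ => ((i : ZMod r)) ^ 2) ⊆ _ from ?_))
    · rw [Finset.card_image_of_injOn]
      · simp
      intro i hi j hj h
      simp only [Finset.coe_Icc, Set.mem_Icc] at hi hj
      rcases sq_eq_sq_iff_eq_or_eq_neg.1 h with h' | h'
      · rw [ZMod.natCast_eq_natCast_iff'] at h'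
        rwa [Nat.mod_eq_of_lt (by omega), Nat.mod_eq_of_lt (by omega)] at h'
      · rw [eq_neg_iff_add_eq_zero, ← Nat.cast_add, ZMod.natCast_eq_zero_iff] at h'
        exact absurd (Nat.le_of_dvd (by omega) h') (by omega)
    · intro b hb
      obtain ⟨i, hi, rfl⟩ := Finset.mem_image.1 hb
      rw [Finset.mem_Icc] at hi
      refine Finset.mem_filter.2 ⟨Finset.mem_univ _, i, fun h0 => ?_, Or.inl rfl⟩
      rw [ZMod.natCast_eq_zero_iff] at h0
      exact absurd (Nat.le_of_dvd (by omega) h0) (by omega)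
  · have : r = 7 := by
      interval_cases r <;> first | rfl | exact absurd hr (by norm_num)
    subst this
    decide +revert +kernel

/-- `PSL₂(r)`, `r ≥ 7` prime, does not occur -/
theorem not_psl_two_odd {P : Subgroup GL4} (hC : Core P) {K : Type} [Field K] [Fintype K]
    (hp : (Fintype.card K).Prime) (h7 : 7 ≤ Fintype.card K)
    (e : P ≃* Matrix.ProjectiveSpecialLinearGroup (Fin 2) K) : False := by
  classical
  haveI := Fact.mk hp
  set r := Fintype.card K with hr
  haveI : CharP K r := charP_of_card_eq_prime hr.symm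
  let T : K → Matrix.SpecialLinearGroup (Fin 2) K := fun c => ⟨!![1, c; 0, 1], by simp [Matrix.det_fin_two]⟩
  have hT : ∀ c d, T c * T d = T (c + d) := fun c d => by
    refine Subtype.ext ?_
    show (!![1, c; 0, 1] : Matrix (Fin 2) (Fin 2) K) * !![1, d; 0, 1] = !![1, c + d; 0, 1]
    rw [Matrix.mul_fin_two]
    simp [add_comm]
  have hT0 : T 0 = 1 := by ext i j; fin_cases i <;> fin_cases j <;> simp [T]
  have hTn : ∀ n : ℕ, T 1 ^ n = T (n : K) := fun n => by
    induction n with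
    | zero => rw [pow_zero, Nat.cast_zero, hT0]
    | succ n ih => rw [pow_succ, ih, hT, Nat.cast_succ]
  let π := QuotientGroup.mk' (Subgroup.center (Matrix.SpecialLinearGroup (Fin 2) K))
  refine false_of_many_powers hC e hp (by omega) (x := π (T 1)) (fun h => ?_)
    (by rw [← map_pow, hTn, CharP.cast_eq_zero, hT0, map_one])
    ((Finset.univ : Finset (ZMod r)).filter fun b => ∃ a : ZMod r, a ≠ 0 ∧ (b = a ^ 2 ∨ b = -a ^ 2))
    ?_ (five_le_signed_squares h7)
  · rw [QuotientGroup.mk'_apply, QuotientGroup.eq_one_iff, Matrix.SpecialLinearGroup.mem_center_iff] at h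
    obtain ⟨c, -, hc⟩ := h
    have := congrFun (congrFun hc 0) 1
    simp [T, Matrix.scalar] at this
  · intro b hb
    obtain ⟨a, ha, hab⟩ := (Finset.mem_filter.1 hb).2
    set k : K := ZMod.castHom (dvd_refl r) K a with hk
    have hk0 : k ≠ 0 := (map_ne_zero _).2 ha
    let d : Matrix.SpecialLinearGroup (Fin 2) K := ⟨!![k, 0; 0, k⁻¹], by simp [Matrix.det_fin_two, hk0]⟩
    have hd : ∀ c, d * T c * d⁻¹ = T (k ^ 2 * c) := fun c => by
      rw [mul_inv_eq_iff_eq_mul]
      refine Subtype.ext ?_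
      show (!![k, 0; 0, k⁻¹] : Matrix (Fin 2) (Fin 2) K) * !![1, c; 0, 1] = !![1, k ^ 2 * c; 0, 1] * !![k, 0; 0, k⁻¹]
      rw [Matrix.mul_fin_two, Matrix.mul_fin_two]
      simp only [mul_one, mul_zero, add_zero, zero_add, one_mul, zero_mul]
      rw [show k ^ 2 * c * k⁻¹ = k * c by field_simp]
    have hb' : (b.val : K) = ZMod.castHom (dvd_refl r) K b := by
      rw [← map_natCast (ZMod.castHom (dvd_refl r) K), ZMod.natCast_zmod_val]
    refine ⟨π d, ?_⟩
    rcases hab with h | h <;> subst h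
    · left
      rw [← map_pow, ← map_inv, ← map_mul, ← map_mul, hd, hTn, hb', map_pow, ← hk, mul_one]
    · right
      have hinv : (T 1)⁻¹ = T (-1) := inv_eq_of_mul_eq_one_right (by rw [hT, add_neg_cancel, hT0])
      rw [← map_pow, ← map_inv, ← map_inv, hinv, ← map_mul, ← map_mul, hd, hTn, hb', map_neg, map_pow, ← hk,
        mul_neg, mul_one]

/-- the companion matrix of `X³ + X + 1` -/
def singerSeven : Matrix.SpecialLinearGroup (Fin 3) (ZMod 2) :=
  ⟨!![0, 0, 1; 1, 0, 1; 0, 1, 0], by decide +kernel⟩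

/-- the squaring map of the field of eight elements -/
def frobSeven : Matrix.SpecialLinearGroup (Fin 3) (ZMod 2) :=
  ⟨!![1, 0, 0; 0, 0, 1; 0, 1, 1], by decide +kernel⟩

/-- `PSL₃(4)` does not occur -/
theorem not_psl_three_four {P : Subgroup GL4} (hC : Core P) {K : Type} [Field K] [Fintype K]
    (hK : Fintype.card K = 4) (e : P ≃* Matrix.ProjectiveSpecialLinearGroup (Fin 3) K) : False := by
  classical
  haveI : Fact (Nat.Prime 2) := ⟨Nat.prime_two⟩
  haveI : CharP K 2 := by
    obtain ⟨p, hp⟩ := CharP.exists K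
    obtain ⟨n, hpr, hc⟩ := FiniteField.card K p
    have h2 : p ∣ 2 ^ 2 := ⟨p ^ ((n : ℕ) - 1), by
      have hn : 0 < (n : ℕ) := n.pos
      rw [← pow_succ', Nat.sub_add_cancel hn, ← hc, hK]; rfl⟩
    have := (Nat.prime_dvd_prime_iff_eq hpr Nat.prime_two).1 (hpr.dvd_of_dvd_pow h2)
    exact this ▸ hp
  let π := (QuotientGroup.mk' (Subgroup.center (Matrix.SpecialLinearGroup (Fin 3) K))).comp
    (Matrix.SpecialLinearGroup.map (n := Fin 3) (ZMod.castHom (dvd_refl 2) K))
  have hconj : frobSeven * singerSeven = singerSeven ^ 2 * frobSeven := by decide +kernel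
  have h7 : singerSeven ^ 7 = 1 := by decide +kernel
  set x := π singerSeven with hx
  set u := π frobSeven with hu
  have h1 : u * x * u⁻¹ = x ^ 2 := by
    rw [mul_inv_eq_iff_eq_mul, hx, hu, ← map_pow, ← map_mul, ← map_mul, hconj]
  have h2 : u * u * x * (u * u)⁻¹ = x ^ 4 := by
    calc u * u * x * (u * u)⁻¹ = u * (u * x * u⁻¹) * u⁻¹ := by group
      _ = x ^ 4 := by rw [h1, ← conj_pow, h1, ← pow_mul]
  have hx7 : x ^ 7 = 1 := by rw [hx, ← map_pow, h7, map_one]
  refine false_of_many_powers hC e (r := 7) (by norm_num) (by norm_num) (x := x) (fun h => ?_) hx7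
    ({1, 2, 4, 3, 5, 6} : Finset (ZMod 7)) ?_ (by decide +kernel)
  · rw [hx] at h
    have h' := (QuotientGroup.eq_one_iff _).1 h
    rw [Matrix.SpecialLinearGroup.mem_center_iff] at h'
    obtain ⟨c, -, hc⟩ := h'
    have h10 : Matrix.scalar (Fin 3) c 1 0 = ZMod.castHom (dvd_refl 2) K (singerSeven.1 1 0) :=
      congrFun (congrFun hc 1) 0
    simp [singerSeven, Matrix.scalar] at h10
  · have hi : ∀ i j : ℕ, i + j = 7 → (x ^ i)⁻¹ = x ^ j := fun i j h => inv_eq_of_mul_eq_one_right (by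
      rw [← pow_add, h, hx7])
    have h0 : ∀ w : _, w * x⁻¹ * w⁻¹ = (w * x * w⁻¹)⁻¹ := fun w => by group
    intro a ha
    simp only [Finset.mem_insert, Finset.mem_singleton] at ha
    rcases ha with rfl | rfl | rfl | rfl | rfl | rfl
    · refine ⟨1, Or.inl ?_⟩
      rw [one_mul, inv_one, mul_one]
      exact (pow_one x).symm
    · exact ⟨u, Or.inl h1⟩
    · exact ⟨u * u, Or.inl h2⟩
    · exact ⟨u * u, Or.inr (by rw [h0, h2, hi 4 3 rfl]; rfl)⟩
    · exact ⟨u, Or.inr (by rw [h0, h1, hi 2 5 rfl]; rfl)⟩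
    · refine ⟨1, Or.inr ?_⟩
      rw [one_mul, inv_one, mul_one]
      exact (congrArg (·⁻¹) (pow_one x).symm).trans (hi 1 6 rfl)

theorem alt_six_five_data : ∃ a b h y z : alternatingGroup (Fin 6),
    a ^ 3 = 1 ∧ b ^ 3 = 1 ∧ a * b = b * a ∧ a ≠ 1 ∧ b ≠ 1 ∧ a * b ≠ 1 ∧ a * b ^ 2 ≠ 1 ∧
    h * a * h⁻¹ = b ^ 2 ∧ y ^ 5 = 1 ∧ y ≠ 1 ∧ a * y * (a * y) = 1 ∧
    z ^ 5 = 1 ∧ z ≠ 1 ∧ a * b * z * (a * b * z) = 1 := by
  refine ⟨⟨swap 0 1 * swap 1 2, ?_⟩, ⟨swap 3 4 * swap 4 5, ?_⟩, ⟨swap 0 3 * swap 1 4 * swap 2 5 * swap 1 2, ?_⟩,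
    ⟨swap 0 2 * swap 2 3 * swap 3 1 * swap 1 4, ?_⟩, ⟨swap 0 1 * swap 1 3 * swap 3 5 * swap 5 4, ?_⟩, ?_⟩
  all_goals first
    | exact Perm.mem_alternatingGroup.2 (by decide +kernel)
    | decide +kernel

/-- two elements of order five of `A₆` generate conjugate subgroups -/
theorem alt_six_five_conj {x y : alternatingGroup (Fin 6)} (hx : x ^ 5 = 1) (hx1 : x ≠ 1) (hy : y ^ 5 = 1)
    (hy1 : y ≠ 1) : ∃ (h : alternatingGroup (Fin 6)) (i : ℕ), h * x ^ i * h⁻¹ = y := by
  haveI : Fact (Nat.Prime 5) := ⟨by norm_num⟩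
  have hsyl : ∀ w : alternatingGroup (Fin 6), w ^ 5 = 1 → w ≠ 1 →
      Nat.card (Subgroup.zpowers w) = 5 ^ (Nat.card (alternatingGroup (Fin 6))).factorization 5 := by
    intro w hw hw1
    have hc : Nat.card (alternatingGroup (Fin 6)) = 360 := by
      rw [nat_card_alternatingGroup, Nat.card_fin]
      rfl
    have hf : (360 : ℕ).factorization 5 = 1 := by
      rw [show (360 : ℕ) = 72 * 5 from rfl, Nat.factorization_mul (by norm_num) (by norm_num), Finsupp.add_apply,
        Nat.factorization_eq_zero_of_not_dvd (by norm_num : ¬ 5 ∣ 72), zero_add,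
        (Fact.out : Nat.Prime 5).factorization_self]
    rw [Nat.card_zpowers, orderOf_eq_prime hw hw1, hc, hf, pow_one]
  obtain ⟨h, hh⟩ := MulAction.exists_smul_eq (alternatingGroup (Fin 6))
    (Sylow.ofCard (Subgroup.zpowers x) (hsyl x hx hx1)) (Sylow.ofCard (Subgroup.zpowers y) (hsyl y hy hy1))
  have hy2 : y ∈ (↑(h • Sylow.ofCard (Subgroup.zpowers x) (hsyl x hx hx1)) : Subgroup (alternatingGroup (Fin 6))) := by
    rw [hh]; exact Subgroup.mem_zpowers y
  rw [Sylow.coe_subgroup_smul] at hy2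
  obtain ⟨w, hw, e⟩ := hy2
  obtain ⟨i, -, hi⟩ := (Finset.mem_image.1 ((IsOfFinOrder.mem_zpowers_iff_mem_range_orderOf (isOfFinOrder_of_finite x)).1 hw))
  refine ⟨h, i, ?_⟩
  rw [hi]
  exact e

/-- the traces of `A₆` are rational -/
theorem six_traces {P : Subgroup GL4} (hC : Core P) {K : Type} [Field K] [Fintype K] (hK : Fintype.card K = 9)
    (e : P ≃* Matrix.ProjectiveSpecialLinearGroup (Fin 2) K) :
    ∀ g ∈ P, Matrix.trace (g : Mat) = 0 ∨ Matrix.trace (g : Mat) = 1 := by
  classical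
  obtain ⟨f⟩ := S0254.result hK
  let ε : P ≃* alternatingGroup (Fin 6) := e.trans f
  let φ : alternatingGroup (Fin 6) →* GL4 := P.subtype.comp ε.symm.toMonoidHom
  have hφ : Function.Injective φ := P.subtype_injective.comp ε.symm.injective
  have hmem : ∀ x, φ x ∈ Cfsg.spGL 2 F := fun x => hC.le (ε.symm x).2
  intro g hg
  obtain ⟨x, hxg⟩ : ∃ x, φ x = g := ⟨ε ⟨g, hg⟩, by simp [φ]⟩
  subst hxg
  have key : Matrix.trace (φ x : Mat) ^ 2 = Matrix.trace (φ x : Mat) := by
    rcases (PSLThree.Rep.AltClasses.six x).2 with h | h | h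
    · exact trace_three (hmem x) (by rw [← map_pow, h, map_one])
    · rw [trace_eq_zero_of_pow_two_pow (n := 2) (g := φ x) (by rw [show 2 ^ 2 = 4 from rfl, ← map_pow, h, map_one])]
      simp
    · by_cases hx1 : x = 1
      · subst hx1
        exact trace_three (hmem 1) (by rw [map_one, one_pow])
      refine trace_five (hmem x) (by rw [← map_pow, h, map_one]) (Matrix.toLin'.injective (LinearMap.ext fun v₀ => ?_))
      rw [map_zero, LinearMap.zero_apply, Matrix.toLin'_apply]
      set X : Mat := (φ x : Mat) with hX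
      set v := (X ^ 4 + X ^ 3 + X ^ 2 + X + 1) *ᵥ v₀ with hv
      have hX5 : X ^ 5 = 1 := by rw [hX, ← Units.val_pow_eq_pow_val, ← map_pow, h, map_one, Units.val_one]
      have hfix : X *ᵥ v = v := by
        rw [hv, Matrix.mulVec_mulVec]
        congr 1
        simp only [mul_add, mul_one, ← pow_succ', ← sq, hX5]
        abel
      -- the configuration
      obtain ⟨a, b, k, y, z, ha, hb, hab, a1, b1, c1, d1, hk, hy, hy1, hay, hz, hz1, habz⟩ := alt_six_five_data
      have main : ∀ u w : alternatingGroup (Fin 6), w ^ 5 = 1 → w ≠ 1 →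
          (φ u : Mat) ^ 2 + (φ u : Mat) + 1 = 0 → u * w * (u * w) = 1 → v = 0 := by
        intro u w hw hw1 hu huw
        obtain ⟨h', i, hi⟩ := alt_six_five_conj h hx1 hw hw1
        have hXi : ∀ i : ℕ, X ^ i *ᵥ v = v := fun i => by
          induction i with
          | zero => rw [pow_zero, Matrix.one_mulVec]
          | succ i ih => rw [pow_succ, ← Matrix.mulVec_mulVec, hfix, ih]
        have hw' : (φ w : Mat) *ᵥ ((φ h' : Mat) *ᵥ v) = (φ h' : Mat) *ᵥ v := by
          rw [Matrix.mulVec_mulVec, ← Units.val_mul, ← map_mul, ← hi,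
            show h' * x ^ i * h'⁻¹ * h' = h' * x ^ i by group, map_mul, map_pow, Units.val_mul,
            Units.val_pow_eq_pow_val, ← Matrix.mulVec_mulVec, ← hX, hXi]
        have h0 := no_fixed hu (by rw [← map_mul, ← map_mul, huw, map_one]) (by rw [← map_pow, hw, map_one]) hw'
        calc v = ((φ h'⁻¹ : GL4) : Mat) *ᵥ ((φ h' : Mat) *ᵥ v) := by
              rw [Matrix.mulVec_mulVec, ← Units.val_mul, ← map_mul, inv_mul_cancel, map_one, Units.val_one,
                Matrix.one_mulVec]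
          _ = 0 := by rw [h0, Matrix.mulVec_zero]
      rcases fixed_point_free (hmem a) (hmem b) (by rw [← map_pow, ha, map_one]) (by rw [← map_pow, hb, map_one])
          (by rw [← map_mul, hab, map_mul]) (fun e' => a1 (hφ (e'.trans (map_one φ).symm)))
          (fun e' => b1 (hφ (e'.trans (map_one φ).symm)))
          (fun e' => c1 (hφ (by rw [map_mul, map_one]; exact e')))
          (fun e' => d1 (hφ (by rw [map_mul, map_pow, map_one]; exact e'))) with h' | h' | h'
      · exact main a y hy hy1 h' hay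
      · refine main a y hy hy1 ?_ hay
        have e1 : k⁻¹ * b * k = a ^ 2 := by
          have e2 : k * a ^ 2 * k⁻¹ = b := by
            rw [← conj_pow, hk, ← pow_mul, show 2 * 2 = 3 + 1 from rfl, pow_succ, hb, one_mul]
          rw [← e2]; group
        have e3 : (φ (k⁻¹ * b * k) : Mat) ^ 2 + (φ (k⁻¹ * b * k) : Mat) + 1 = 0 := by
          set Kk : Mat := (φ k : Mat)
          set Ki : Mat := ((φ k⁻¹ : GL4) : Mat)
          set Bb : Mat := (φ b : Mat)
          have hKK : Kk * Ki = 1 := by rw [← Units.val_mul, ← map_mul, mul_inv_cancel, map_one, Units.val_one]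
          have hKK' : Ki * Kk = 1 := by rw [← Units.val_mul, ← map_mul, inv_mul_cancel, map_one, Units.val_one]
          rw [map_mul, map_mul, Units.val_mul, Units.val_mul, sq,
            show Ki * Bb * Kk * (Ki * Bb * Kk) = Ki * (Bb ^ 2) * Kk by
              rw [sq]; simp only [mul_assoc]; rw [← mul_assoc Kk Ki, hKK, one_mul]]
          calc Ki * Bb ^ 2 * Kk + Ki * Bb * Kk + 1 = Ki * (Bb ^ 2 + Bb + 1) * Kk := by
                rw [mul_add, mul_add, add_mul, add_mul, mul_one, hKK']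
            _ = 0 := by rw [h', mul_zero, zero_mul]
        rw [e1, map_pow, Units.val_pow_eq_pow_val, ← pow_mul, show 2 * 2 = 3 + 1 from rfl, pow_succ,
          ← Units.val_pow_eq_pow_val, ← map_pow, ha, map_one, Units.val_one, one_mul] at e3
        rw [← e3]; abel
      · exact main (a * b) z hz hz1 (by rw [map_mul]; exact h') habz
  rcases eq_or_ne (Matrix.trace (φ x : Mat)) 0 with h0 | h0
  · exact Or.inl h0
  · exact Or.inr (mul_left_cancel₀ h0 (by rw [← sq, key, mul_one]))

end Cfsg.Agent.SpFourEven
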