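import Cfsg.Agent.Lib.SpFourEven.Defs

/-!
# Inverses and eigenvalues in `Sp₄(F)`, characteristic two
-/

set_option autoImplicit false
set_option linter.unusedSectionVars false

namespace Cfsg.Agent.SpFourEven

open Matrix Polynomial Cfsg.Agent.Aschbacher Cfsg.Agent.Forms.SympStd Cfsg.Agent.Forms.Max

variable {F : Type*} [Field F] [CharP F 2]

local notation "GL4" => GL (Fin 2 ⊕ Fin 2) F
local notation "Mat" => Matrix (Fin 2 ⊕ Fin 2) (Fin 2 ⊕ Fin 2) F

theorem inv_eq_J {g : GL4} (hg : g ∈ Cfsg.spGL 2 F) :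
    ((g⁻¹ : GL4) : Mat) = Matrix.J (Fin 2) F * (g : Mat)ᵀ * Matrix.J (Fin 2) F := by
  haveI : CharP Mat 2 := inferInstance
  have h : -(Matrix.J (Fin 2) F * (g : Mat)ᵀ * Matrix.J (Fin 2) F * (g : Mat)) = 1 :=
    SymplecticGroup.inv_left_mul_aux (mem_sp_iff.2 fun u v => hg u v)
  rw [CharTwo.neg_eq] at h
  calc ((g⁻¹ : GL4) : Mat) =
      Matrix.J (Fin 2) F * (g : Mat)ᵀ * Matrix.J (Fin 2) F * (g : Mat) * ((g⁻¹ : GL4) : Mat) := by
        rw [h, one_mul]
    _ = _ := by rw [mul_assoc _ (g : Mat), ← Units.val_mul, mul_inv_cancel, Units.val_one, mul_one]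

theorem inv_apply {g : GL4} (hg : g ∈ Cfsg.spGL 2 F) (i j : Fin 2) :
    ((g⁻¹ : GL4) : Mat) (.inl i) (.inl j) = (g : Mat) (.inr j) (.inr i) ∧
    ((g⁻¹ : GL4) : Mat) (.inl i) (.inr j) = (g : Mat) (.inl j) (.inr i) ∧
    ((g⁻¹ : GL4) : Mat) (.inr i) (.inl j) = (g : Mat) (.inr j) (.inl i) ∧
    ((g⁻¹ : GL4) : Mat) (.inr i) (.inr j) = (g : Mat) (.inl j) (.inl i) := by
  rw [inv_eq_J hg]
  refine ⟨?_, ?_, ?_, ?_⟩ <;>
    simp [Matrix.J, Matrix.mul_apply, Matrix.transpose_apply, Matrix.one_apply, Fintype.sum_sum_type,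
      CharTwo.neg_eq]

theorem trace_inv {g : GL4} (hg : g ∈ Cfsg.spGL 2 F) :
    Matrix.trace ((g⁻¹ : GL4) : Mat) = Matrix.trace (g : Mat) := by
  simp only [Matrix.trace, Matrix.diag_apply, Fintype.sum_sum_type]
  rw [add_comm]
  congr 1 <;> refine Finset.sum_congr rfl fun i _ => ?_
  exacts [(inv_apply hg i i).2.2.2, (inv_apply hg i i).1]

theorem trace_sq [CharP F 2] (A : Mat) : Matrix.trace (A ^ 2) = Matrix.trace A ^ 2 := by
  have h2 : (2 : F) = 0 := CharTwo.two_eq_zero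
  simp only [Matrix.trace, Matrix.diag_apply, sq, Matrix.mul_apply, Fintype.sum_sum_type, Fin.sum_univ_two]
  linear_combination (A (.inl 0) (.inl 1) * A (.inl 1) (.inl 0) + A (.inl 0) (.inr 0) * A (.inr 0) (.inl 0)
    + A (.inl 0) (.inr 1) * A (.inr 1) (.inl 0) + A (.inl 1) (.inr 0) * A (.inr 0) (.inl 1)
    + A (.inl 1) (.inr 1) * A (.inr 1) (.inl 1) + A (.inr 0) (.inr 1) * A (.inr 1) (.inr 0)
    - A (.inl 0) (.inl 0) * A (.inl 1) (.inl 1) - A (.inl 0) (.inl 0) * A (.inr 0) (.inr 0)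
    - A (.inl 0) (.inl 0) * A (.inr 1) (.inr 1) - A (.inl 1) (.inl 1) * A (.inr 0) (.inr 0)
    - A (.inl 1) (.inl 1) * A (.inr 1) (.inr 1) - A (.inr 0) (.inr 0) * A (.inr 1) (.inr 1)) * h2

theorem trace_pow_two_pow [CharP F 2] (A : Mat) (n : ℕ) :
    Matrix.trace (A ^ 2 ^ n) = Matrix.trace A ^ 2 ^ n := by
  induction n with
  | zero => simp
  | succ n ih => rw [pow_succ, pow_mul, trace_sq, ih, ← pow_mul]

theorem trace_eq_zero_of_pow_two_pow [CharP F 2] {g : GL4} {n : ℕ} (h : g ^ 2 ^ n = 1) :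
    Matrix.trace (g : Mat) = 0 := by
  have h1 := trace_pow_two_pow (g : Mat) n
  rw [← Units.val_pow_eq_pow_val, h, Units.val_one, Matrix.trace_one] at h1
  have h4 : ((Fintype.card (Fin 2 ⊕ Fin 2) : ℕ) : F) = 0 := by
    rw [CharP.cast_eq_zero_iff F 2]
    simp
  rw [h4] at h1
  exact eq_zero_of_pow_eq_zero h1.symm

theorem trace_conj (u g : GL4) : Matrix.trace ((u * g * u⁻¹ : GL4) : Mat) = Matrix.trace (g : Mat) := by
  rw [Units.val_mul, Units.val_mul, Matrix.trace_mul_cycle, ← Units.val_mul, inv_mul_cancel, Units.val_one, one_mul]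

variable {L : Type*} [Field L] [Algebra F L] [IsAlgClosed L]

/-- the eigenvalues over an algebraically closed field -/
noncomputable def eigs (L : Type*) [Field L] [Algebra F L] (g : GL4) : Set L :=
  spectrum L ((g : Mat).map (algebraMap F L))

theorem eigs_eq (g : GL4) (μ : L) : μ ∈ eigs L g ↔ IsRoot ((g : Mat).charpoly.map (algebraMap F L)) μ := by
  rw [eigs, Matrix.mem_spectrum_iff_isRoot_charpoly, Matrix.charpoly_map]

theorem eigs_conj (u g : GL4) : eigs L (u * g * u⁻¹) = eigs L g := by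
  ext μ
  rw [eigs_eq, eigs_eq, Units.val_mul, Units.val_mul, Matrix.coe_units_inv, Matrix.charpoly_units_conj u (g : Mat)]

theorem eigs_inv {g : GL4} (hg : g ∈ Cfsg.spGL 2 F) : eigs L g⁻¹ = eigs L g := by
  ext μ
  let Ju : GL4 := ⟨Matrix.J (Fin 2) F, Matrix.J (Fin 2) F,
    by rw [Matrix.J_squared, CharTwo.neg_eq], by rw [Matrix.J_squared, CharTwo.neg_eq]⟩
  have h : ((g⁻¹ : GL4) : Mat) = (Ju : Mat) * (g : Mat)ᵀ * ((Ju⁻¹ : GL4) : Mat) := inv_eq_J hg
  rw [eigs_eq, eigs_eq, h, Matrix.coe_units_inv, Matrix.charpoly_units_conj, Matrix.charpoly_transpose]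

theorem pow_mem_eigs {g : GL4} {μ : L} (h : μ ∈ eigs L g) (n : ℕ) : μ ^ n ∈ eigs L (g ^ n) := by
  have h1 : μ ^ n ∈ spectrum L (((g : Mat).map (algebraMap F L)) ^ n) := spectrum.pow_mem_pow _ n h
  have h2 : ((g ^ n : GL4) : Mat).map (algebraMap F L) = ((g : Mat).map (algebraMap F L)) ^ n := by
    rw [Units.val_pow_eq_pow_val]
    exact map_pow (algebraMap F L).mapMatrix (g : Mat) n
  rw [eigs, h2]
  exact h1

theorem pow_eq_one_of_mem_eigs {g : GL4} {μ : L} (h : μ ∈ eigs L g) {n : ℕ} (hn : g ^ n = 1) : μ ^ n = 1 := by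
  have h1 := pow_mem_eigs h n
  rw [hn, eigs, Units.val_one, Matrix.map_one _ (map_zero _) (map_one _), spectrum.one_eq] at h1
  exact h1

theorem eigs_ncard_le (g : GL4) (s : Finset L) (hs : (↑s : Set L) ⊆ eigs L g) : s.card ≤ 4 := by
  classical
  have hne : (g : Mat).charpoly.map (algebraMap F L) ≠ 0 :=
    ((g : Mat).charpoly_monic.map _).ne_zero
  have h1 : s ⊆ ((g : Mat).charpoly.map (algebraMap F L)).roots.toFinset := fun μ hμ => by
    rw [Multiset.mem_toFinset]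
    exact (Polynomial.mem_roots hne).2 ((eigs_eq g μ).1 (hs hμ))
  refine (Finset.card_le_card h1).trans ((Multiset.toFinset_card_le _).trans
    ((Polynomial.card_roots' _).trans (Polynomial.natDegree_map_le.trans ?_)))
  rw [Matrix.charpoly_natDegree_eq_dim]
  simp

/-- only the eigenvalue one: unipotent -/
theorem pow_four_of_eigs {g : GL4} (h : ∀ μ ∈ eigs L g, μ = 1) : g ^ 4 = 1 := by
  set p := (g : Mat).charpoly with hp
  set q := p.map (algebraMap F L) with hq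
  have hr : ∀ μ ∈ q.roots, μ = 1 := fun μ hμ => h μ ((eigs_eq g μ).2 (Polynomial.mem_roots'.1 hμ).2)
  have hs : q.Splits := IsAlgClosed.splits q
  have hc : q.roots.card = 4 := by
    rw [← hs.natDegree_eq_card_roots, hq, Polynomial.natDegree_map, hp, Matrix.charpoly_natDegree_eq_dim]
    simp
  have hqe : q = (X - C 1) ^ 4 := by
    rw [hs.eq_prod_roots, ((g : Mat).charpoly_monic.map _).leadingCoeff, map_one, one_mul,
      Multiset.eq_replicate.2 ⟨hc, hr⟩, Multiset.map_replicate, Multiset.prod_replicate, map_one]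
  have hpe : p = (X - C 1) ^ 4 := by
    refine Polynomial.map_injective (algebraMap F L) (algebraMap F L).injective ?_
    rw [← hq, hqe, Polynomial.map_pow, Polynomial.map_sub, Polynomial.map_X, Polynomial.map_C, map_one (algebraMap F L)]
  have h0 := Matrix.aeval_self_charpoly (g : Mat)
  rw [← hp, hpe] at h0
  simp only [map_pow, map_sub, aeval_X, map_one] at h0
  haveI : Fact (Nat.Prime 2) := ⟨Nat.prime_two⟩
  have h4 : ((g : Mat) - 1) ^ (2 ^ 2) = (g : Mat) ^ (2 ^ 2) - 1 ^ (2 ^ 2) :=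
    sub_pow_char_pow_of_commute 2 2 (Commute.one_right _)
  norm_num at h4
  rw [h4, sub_eq_zero] at h0
  exact Units.ext (by rw [Units.val_pow_eq_pow_val, h0, Units.val_one])

theorem eq_one_of_many_powers {g : GL4} (hg : g ∈ Cfsg.spGL 2 F) {r : ℕ} (hr : r.Prime) (hr2 : r ≠ 2)
    (hgr : g ^ r = 1) (A : Finset (ZMod r))
    (hA : ∀ a ∈ A, ∃ u : GL4, u * g * u⁻¹ = g ^ a.val ∨ u * g⁻¹ * u⁻¹ = g ^ a.val) (h5 : 5 ≤ A.card) :
    g = 1 := by
  classical
  haveI := Fact.mk hr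
  let L := AlgebraicClosure F
  have hall : ∀ μ ∈ eigs L g, μ = 1 := by
    intro μ hμ
    by_contra h1
    have ho : orderOf μ = r := orderOf_eq_prime (pow_eq_one_of_mem_eigs hμ hgr) h1
    have hfin : IsOfFinOrder μ :=
      isOfFinOrder_iff_pow_eq_one.2 ⟨r, hr.pos, pow_eq_one_of_mem_eigs hμ hgr⟩
    have hinj : Set.InjOn (fun a : ZMod r => μ ^ a.val) ↑A := fun a _ b _ e => by
      have e' : μ ^ a.val = μ ^ b.val := e
      rw [hfin.pow_eq_pow_iff_modEq, ho, ← ZMod.natCast_eq_natCast_iff, ZMod.natCast_zmod_val,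
        ZMod.natCast_zmod_val] at e'
      exact e'
    have hsub : (↑(A.image fun a : ZMod r => μ ^ a.val) : Set L) ⊆ eigs L g := by
      intro x hx
      obtain ⟨a, ha, rfl⟩ := Finset.mem_image.1 hx
      obtain ⟨u, hu⟩ := hA a ha
      have h2 := pow_mem_eigs hμ a.val
      rcases hu with hu | hu <;> rw [← hu, eigs_conj] at h2
      · exact h2
      · rwa [eigs_inv hg] at h2
    have := eigs_ncard_le g _ hsub
    rw [Finset.card_image_of_injOn hinj] at this
    omega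
  have h4 := pow_four_of_eigs hall
  have hd : orderOf g ∣ Nat.gcd r 4 := Nat.dvd_gcd (orderOf_dvd_of_pow_eq_one hgr) (orderOf_dvd_of_pow_eq_one h4)
  have hcop : Nat.Coprime r 4 := by
    rw [show (4 : ℕ) = 2 ^ 2 from rfl]
    exact Nat.Coprime.pow_right 2 ((Nat.coprime_primes hr Nat.prime_two).2 hr2)
  rw [hcop.gcd_eq_one, Nat.dvd_one] at hd
  exact orderOf_eq_one_iff.1 hd

end Cfsg.Agent.SpFourEven
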