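import Cfsg.Agent.Lib.Suzuki.TorusType

/-!
# In the Suzuki group over a field of order `Q` an element of odd order is conjugate to its `Q`-th power
-/

set_option autoImplicit false
set_option linter.unusedSectionVars false

namespace Cfsg.Agent.SpFourEven

open Matrix Polynomial Cfsg.Agent.Suzuki

variable {L : Type*} [Field L] [IsAlgClosed L]

/-- a matrix of dimension four in characteristic two with only the eigenvalue one is unipotent -/
theorem pow_four_eq_one_of_spectrum [CharP L 2] {N : Matrix (Fin 4) (Fin 4) L}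
    (h : ∀ μ ∈ spectrum L N, μ = 1) : N ^ 4 = 1 := by
  have hr : ∀ μ ∈ N.charpoly.roots, μ = 1 := fun μ hμ =>
    h μ (Matrix.mem_spectrum_iff_isRoot_charpoly.2 (Polynomial.mem_roots'.1 hμ).2)
  have hs : N.charpoly.Splits := IsAlgClosed.splits N.charpoly
  have hc : N.charpoly.roots.card = 4 := by
    rw [← hs.natDegree_eq_card_roots, Matrix.charpoly_natDegree_eq_dim, Fintype.card_fin]
  have hp : N.charpoly = (X - C 1) ^ 4 := by
    rw [hs.eq_prod_roots, N.charpoly_monic.leadingCoeff, map_one, one_mul,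
      Multiset.eq_replicate.2 ⟨hc, hr⟩, Multiset.map_replicate, Multiset.prod_replicate, map_one]
  have h0 := Matrix.aeval_self_charpoly N
  rw [hp] at h0
  simp only [map_pow, map_sub, aeval_X, aeval_C, map_one] at h0
  have h2 : ((2 : ℕ) : Matrix (Fin 4) (Fin 4) L) = 0 := CharP.cast_eq_zero _ 2
  haveI : Fact (Nat.Prime 2) := ⟨Nat.prime_two⟩
  have h4 : (N - 1) ^ (2 ^ 2) = N ^ (2 ^ 2) - 1 ^ (2 ^ 2) := sub_pow_char_pow_of_commute 2 2 (Commute.one_right N)
  norm_num at h4
  rw [h4, sub_eq_zero] at h0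
  exact h0

variable {K : Type*} [Field K] [Fintype K] [CharP K 2] {m : ℕ}

theorem isConj_pow_card (hm : 1 ≤ m) (hK : Fintype.card K = 2 ^ (2 * m + 1)) (y : Cfsg.Sz K m)
    (ho : Odd (orderOf y)) : IsConj y (y ^ Fintype.card K) := by
  classical
  by_cases hy1 : y = 1
  · rw [hy1, one_pow]
  rcases trType_or_isTor hm hK hy1 with h | hT
  · exact absurd (even_iff_two_dvd.2 (h.even_orderOf hm hK)) (Nat.not_even_iff_odd.2 ho)
  set T := Subgroup.centralizer ({y} : Set (Cfsg.Sz K m)) with hTdef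
  have hyT : y ∈ T := Subgroup.mem_centralizer_singleton_iff.2 rfl
  rcases hT.cases hm hK with ⟨hc, -, -⟩ | ⟨-, -, hN⟩
  · have h1 : y ^ (Fintype.card K - 1) = 1 :=
      orderOf_dvd_iff_pow_eq_one.1 (hc ▸ Subgroup.orderOf_dvd_natCard T hyT)
    have h2 : y ^ Fintype.card K = y := by
      conv_lhs => rw [← Nat.sub_add_cancel (Fintype.card_pos : 0 < Fintype.card K)]
      rw [pow_succ, h1, one_mul]
    rw [h2]
  set k := orderOf y with hk
  have hkpos : 0 < k := orderOf_pos y
  -- the natural representation over the algebraic closure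
  let L := AlgebraicClosure K
  haveI : CharP L 2 := charP_of_injective_algebraMap (algebraMap K L).injective 2
  let ρ : Cfsg.Sz K m →* Matrix (Fin 4) (Fin 4) L :=
    ((algebraMap K L).mapMatrix : Matrix (Fin 4) (Fin 4) K →+* Matrix (Fin 4) (Fin 4) L).toMonoidHom.comp
      { toFun := fun g : Cfsg.Sz K m => mat g, map_one' := mat_one, map_mul' := mat_mul }
  have hρ : ∀ g, ρ g = (mat g).map (algebraMap K L) := fun g => rfl
  have hρinj : Function.Injective ρ := fun g h e =>
    mat_injective (Matrix.map_injective (algebraMap K L).injective e)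
  set M := ρ y with hM
  set S := spectrum L M with hS
  have hSroot : ∀ μ, μ ∈ S ↔ IsRoot M.charpoly μ := fun μ => Matrix.mem_spectrum_iff_isRoot_charpoly
  have hScard : ∀ s : Finset L, (↑s : Set L) ⊆ S → s.card ≤ 4 := by
    intro s hs
    have h1 : s ⊆ M.charpoly.roots.toFinset := fun μ hμ => by
      rw [Multiset.mem_toFinset]
      exact (Polynomial.mem_roots M.charpoly_monic.ne_zero).2 ((hSroot μ).1 (hs hμ))
    have h2 : M.charpoly.natDegree = 4 := by rw [Matrix.charpoly_natDegree_eq_dim, Fintype.card_fin]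
    exact (Finset.card_le_card h1).trans ((Multiset.toFinset_card_le _).trans
      ((Polynomial.card_roots' _).trans h2.le))
  have hfrob : ∀ μ ∈ S, μ ^ Fintype.card K ∈ S := by
    intro μ hμ
    rw [hSroot] at hμ ⊢
    have e : M.charpoly = (mat y).charpoly.map (algebraMap K L) := by
      rw [hM, hρ]; exact Matrix.charpoly_map _ _
    rw [e, IsRoot, eval_map_algebraMap] at hμ ⊢
    rw [← Polynomial.expand_aeval (Fintype.card K) (mat y).charpoly μ, FiniteField.expand_card, map_pow, hμ,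
      zero_pow Fintype.card_ne_zero]
  have hpow : ∀ n : ℕ, 0 < n → spectrum L (M ^ n) = (· ^ n) '' S := fun n hn => spectrum.map_pow_of_pos M hn
  have hMk : M ^ k = 1 := by rw [hM, ← map_pow, hk, pow_orderOf_eq_one, map_one]
  have hμk : ∀ μ ∈ S, μ ^ k = 1 := by
    intro μ hμ
    have h1 : μ ^ k ∈ spectrum L (M ^ k) := spectrum.pow_mem_pow M k hμ
    rw [hMk, spectrum.one_eq] at h1
    exact h1
  have hunip : ∀ j : ℕ, 0 < j → (∀ μ ∈ S, μ ^ j = 1) → k ∣ j := by
    intro j hj h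
    have h4 : (M ^ j) ^ 4 = 1 := pow_four_eq_one_of_spectrum fun μ hμ => by
      rw [hpow j hj] at hμ
      obtain ⟨ν, hν, rfl⟩ := hμ
      exact h ν hν
    have h5 : y ^ (j * 4) = 1 := hρinj (by rw [map_pow, map_one, pow_mul]; exact h4)
    have hcop : Nat.Coprime k 4 := by
      rw [show (4 : ℕ) = 2 ^ 2 from rfl]
      exact Nat.Coprime.pow_right 2 (Nat.coprime_two_right.2 ho)
    exact hcop.dvd_of_dvd_mul_right (orderOf_dvd_of_pow_eq_one h5)
  obtain ⟨lam, hlam, hlam1⟩ : ∃ lam ∈ S, lam ≠ 1 := by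
    by_contra hc
    push Not at hc
    have h1 := hunip 1 one_pos fun μ hμ => by rw [hc μ hμ, one_pow]
    exact hy1 (orderOf_eq_one_iff.1 (Nat.dvd_one.1 h1))
  set j := orderOf lam with hj
  have hjk : j ∣ k := orderOf_dvd_of_pow_eq_one (hμk lam hlam)
  have hj1 : j ≠ 1 := fun e => hlam1 (orderOf_eq_one_iff.1 e)
  have hjpos : 0 < j := Nat.pos_of_ne_zero fun e => hkpos.ne' (Nat.eq_zero_of_zero_dvd (e ▸ hjk))
  have hlamfin : IsOfFinOrder lam := isOfFinOrder_iff_pow_eq_one.2 ⟨k, hkpos, hμk lam hlam⟩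
  -- conjugates of `y` under the normaliser are powers
  set N := Subgroup.normalizer (T : Set (Cfsg.Sz K m)) with hNdef
  haveI : IsCyclic T := hT.2.1
  have hexp : ∀ n : N, ∃ a : ℕ, (n : Cfsg.Sz K m) * y * (n : Cfsg.Sz K m)⁻¹ = y ^ a := by
    intro n
    have hn : (n : Cfsg.Sz K m) * y * (n : Cfsg.Sz K m)⁻¹ ∈ T := (Subgroup.mem_set_normalizer_iff.1 n.2 y).1 hyT
    set z : T := ⟨_, hn⟩
    set y' : T := ⟨y, hyT⟩
    have hy' : orderOf y' = k := Subgroup.orderOf_mk y hyT
    have hz : orderOf z = k := by rw [Subgroup.orderOf_mk, orderOf_conj_eq]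
    let s : Finset T := Finset.univ.filter fun x => x ^ k = 1
    have hs : s.card ≤ k := IsCyclic.card_pow_eq_one_le hkpos
    have hsub : (Finset.range k).image (fun i => y' ^ i) ⊆ s := by
      intro x hx
      obtain ⟨i, -, rfl⟩ := Finset.mem_image.1 hx
      refine Finset.mem_filter.2 ⟨Finset.mem_univ _, ?_⟩
      rw [← pow_mul, mul_comm, pow_mul, ← hy', pow_orderOf_eq_one, one_pow]
    have hcard : ((Finset.range k).image (fun i => y' ^ i)).card = k := by
      rw [Finset.card_image_of_injOn, Finset.card_range]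
      intro a ha b hb hab
      exact pow_injOn_Iio_orderOf (by rw [hy']; simpa using ha) (by rw [hy']; simpa using hb) hab
    have heq := Finset.eq_of_subset_of_card_le hsub (hcard.symm ▸ hs)
    have hzs : z ∈ s := Finset.mem_filter.2 ⟨Finset.mem_univ _, by rw [← hz, pow_orderOf_eq_one]⟩
    rw [← heq] at hzs
    obtain ⟨a, -, ha⟩ := Finset.mem_image.1 hzs
    exact ⟨a, (congrArg Subtype.val ha).symm⟩
  choose a ha using hexp
  have haS : ∀ n : N, ∀ μ ∈ S, μ ^ a n ∈ S := by
    intro n μ hμ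
    have h1 : μ ^ a n ∈ spectrum L (M ^ a n) := spectrum.pow_mem_pow M (a n) hμ
    have h2 : M ^ a n = ρ (n : Cfsg.Sz K m) * M * ρ (n : Cfsg.Sz K m)⁻¹ := by
      rw [hM, ← map_pow, ← ha, map_mul, map_mul]
    let u : (Matrix (Fin 4) (Fin 4) L)ˣ :=
      ⟨ρ (n : Cfsg.Sz K m), ρ (n : Cfsg.Sz K m)⁻¹, by rw [← map_mul, mul_inv_cancel, map_one],
        by rw [← map_mul, inv_mul_cancel, map_one]⟩
    rw [h2] at h1
    have h3 : spectrum L ((u : Matrix (Fin 4) (Fin 4) L) * M * ((u⁻¹ : (Matrix (Fin 4) (Fin 4) L)ˣ) :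
        Matrix (Fin 4) (Fin 4) L)) = S := spectrum.units_conjugate
    rw [← h3]
    exact h1
  -- distinct cosets give distinct eigenvalues
  let TN : Subgroup N := T.subgroupOf N
  have hidx : Nat.card (N ⧸ TN) = 4 := by
    have h1 := Subgroup.card_mul_index TN
    rw [Nat.card_congr (Subgroup.subgroupOfEquivOfLe Subgroup.le_normalizer).toEquiv, hN, mul_comm 4] at h1
    exact Nat.eq_of_mul_eq_mul_left Nat.card_pos h1
  have hinj : Function.Injective fun c : N ⧸ TN => lam ^ a c.out := by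
    intro c c' e
    simp only at e
    rw [hlamfin.pow_eq_pow_iff_modEq, ← hj] at e
    have hw : ∀ n : N, (n : Cfsg.Sz K m) * y ^ (k / j) * (n : Cfsg.Sz K m)⁻¹ = (y ^ (k / j)) ^ a n := fun n => by
      rw [← conj_pow, ha, ← pow_mul, ← pow_mul, mul_comm]
    have hwo : orderOf (y ^ (k / j)) = j := by
      rw [orderOf_pow_of_dvd (Nat.div_pos (Nat.le_of_dvd hkpos hjk) hjpos).ne' (Nat.div_dvd_of_dvd hjk),
        ← hk, Nat.div_div_self hjk hkpos.ne']
    have h1 : (c.out : Cfsg.Sz K m) * y ^ (k / j) * (c.out : Cfsg.Sz K m)⁻¹ =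
        (c'.out : Cfsg.Sz K m) * y ^ (k / j) * (c'.out : Cfsg.Sz K m)⁻¹ := by
      rw [hw, hw, pow_eq_pow_iff_modEq, hwo]
      exact e
    have hw1 : y ^ (k / j) ≠ 1 := fun e1 => hj1 (by rw [← hwo, e1, orderOf_one])
    have h2 : (c.out : Cfsg.Sz K m)⁻¹ * (c'.out : Cfsg.Sz K m) ∈ T := by
      rw [← hT.2.2.2 (y ^ (k / j)) (pow_mem hyT _) hw1, Subgroup.mem_centralizer_singleton_iff]
      calc (c.out : Cfsg.Sz K m)⁻¹ * (c'.out : Cfsg.Sz K m) * y ^ (k / j)
          = (c.out : Cfsg.Sz K m)⁻¹ * ((c'.out : Cfsg.Sz K m) * y ^ (k / j) * (c'.out : Cfsg.Sz K m)⁻¹) *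
              (c'.out : Cfsg.Sz K m) := by group
        _ = y ^ (k / j) * ((c.out : Cfsg.Sz K m)⁻¹ * (c'.out : Cfsg.Sz K m)) := by rw [← h1]; group
    rw [← QuotientGroup.out_eq' c, ← QuotientGroup.out_eq' c', QuotientGroup.eq]
    exact Subgroup.mem_subgroupOf.2 h2
  haveI : Fintype (N ⧸ TN) := Fintype.ofFinite _
  let O : Finset L := Finset.univ.image fun c : N ⧸ TN => lam ^ a c.out
  have hO4 : O.card = 4 := by
    rw [Finset.card_image_of_injective _ hinj, Finset.card_univ, ← Nat.card_eq_fintype_card, hidx]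
  have hOS : (↑O : Set L) ⊆ S := by
    intro μ hμ
    obtain ⟨c, -, rfl⟩ := Finset.mem_image.1 hμ
    exact haS _ _ hlam
  have hall : ∀ μ ∈ S, μ ∈ O := by
    intro μ hμ
    by_contra hne
    have := hScard (insert μ O) (by rw [Finset.coe_insert]; exact Set.insert_subset hμ hOS)
    rw [Finset.card_insert_of_notMem hne, hO4] at this
    omega
  have hkj : k ∣ j := hunip j hjpos fun μ hμ => by
    obtain ⟨c, -, rfl⟩ := Finset.mem_image.1 (hall μ hμ)
    rw [← pow_mul, mul_comm, pow_mul, hj, pow_orderOf_eq_one, one_pow]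
  obtain ⟨c, -, hc⟩ := Finset.mem_image.1 (hall _ (hfrob lam hlam))
  rw [hlamfin.pow_eq_pow_iff_modEq, ← hj, Nat.dvd_antisymm hjk hkj] at hc
  have he : y ^ Fintype.card K = (c.out : Cfsg.Sz K m) * y * (c.out : Cfsg.Sz K m)⁻¹ := by
    rw [ha, pow_eq_pow_iff_modEq, ← hk]
    exact hc.symm
  exact isConj_iff.2 ⟨_, he.symm⟩

end Cfsg.Agent.SpFourEven
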