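import Cfsg.Agent.Lib.SpFourEven.Defs
import Cfsg.Agent.Lib.SpFourEven.Cit.SzPow
import Cfsg.Agent.Lib.SpFourEven.Cit.Eigen
import Cfsg.Agent.Lib.CIT.ConsEPPOFour
import Cfsg.Agent.Lib.CIT.GraphBasic
import Cfsg.Agent.Lib.Classical.Symplectic
import Cfsg.Agent.Lib.Forms.Max.TwoRoot.Small.Large

/-!
# A Suzuki group in `Sp₄(F)` with traces generating `F` is the Suzuki group over `F`
-/

set_option autoImplicit false
set_option linter.unusedSectionVars false

namespace Cfsg.Agent.SpFourEven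

open Matrix Cfsg.Agent.Aschbacher Cfsg.Agent.Forms.SympStd Cfsg.Agent.Forms.Max

variable {F : Type*} [Field F]

local notation "GL4" => GL (Fin 2 ⊕ Fin 2) F
local notation "Mat" => Matrix (Fin 2 ⊕ Fin 2) (Fin 2 ⊕ Fin 2) F

/-- the Suzuki socle lives over the field of definition -/
theorem suzuki_field [Fintype F] [CharP F 2] {P : Subgroup GL4} (hC : Core P) (hT : FullTraces P)
    {K : Type} [Field K] [Fintype K] {m : ℕ} (hm : 1 ≤ m) (hK : Fintype.card K = 2 ^ (2 * m + 1))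
    (e : P ≃* Cfsg.Lie.Sz K (2 ^ (m + 1))) : Fintype.card F = 2 ^ (2 * m + 1) := by
  classical
  haveI := Cfsg.Agent.Suzuki.charTwo hK
  obtain ⟨ε⟩ := Cfsg.Agent.Suzuki.lieEquiv hm hK
  let f : P ≃* Cfsg.Sz K m := e.trans ε.symm
  set n := 2 * m + 1 with hn
  haveI : Fact (Nat.Prime 2) := ⟨Nat.prime_two⟩
  -- the traces are fixed by the Frobenius of `K`
  have htr : ∀ g ∈ P, Matrix.trace (g : Mat) ^ 2 ^ n = Matrix.trace (g : Mat) := by
    intro g hg
    set y := f ⟨g, hg⟩ with hy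
    have hog : orderOf y = orderOf g := by
      rw [hy, ← Subgroup.orderOf_mk g hg]; exact orderOf_injective f.toMonoidHom f.injective _
    by_cases ho : Odd (orderOf y)
    · obtain ⟨u, hu⟩ := isConj_iff.1 (isConj_pow_card hm hK y ho)
      rw [hK, hy, ← map_pow] at hu
      have h2 : (f.symm u) * ⟨g, hg⟩ * (f.symm u)⁻¹ = (⟨g, hg⟩ : P) ^ 2 ^ n := f.injective (by
        rw [map_mul, map_mul, map_inv, f.apply_symm_apply]; exact hu)
      have h3 : ((f.symm u : P) : GL4) * g * ((f.symm u : P) : GL4)⁻¹ = g ^ 2 ^ n := congrArg Subtype.val h2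
      rw [← trace_pow_two_pow, ← Units.val_pow_eq_pow_val, ← h3, trace_conj]
    · have hy1 : y ≠ 1 := fun h1 => ho (by simp [h1])
      rcases Cfsg.Agent.Suzuki.trType_or_isTor hm hK hy1 with h | h
      · have h4 : g ^ 2 ^ 2 = 1 := by
          rw [← orderOf_dvd_iff_pow_eq_one, ← hog]
          exact orderOf_dvd_of_pow_eq_one (h.pow_four hm hK)
        rw [trace_eq_zero_of_pow_two_pow h4, zero_pow (by positivity)]
      · exact absurd (h.2.2.1.of_dvd_nat (Subgroup.orderOf_dvd_natCard _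
          (Subgroup.mem_centralizer_singleton_iff.2 rfl))) ho
  -- the field
  let K₀ : Subfield F := RingHom.eqLocusField (iterateFrobenius F 2 n) (RingHom.id F)
  have hmem : ∀ x : F, x ∈ K₀ ↔ x ^ 2 ^ n = x := fun x => by
    show iterateFrobenius F 2 n x = x ↔ _
    rw [iterateFrobenius_def]
  have hK₀ : K₀ = ⊤ := hT K₀ fun g hg => (hmem _).2 (htr g hg)
  have hall : ∀ x : F, x ^ 2 ^ n = x := fun x => (hmem x).1 (hK₀ ▸ Subfield.mem_top x)
  obtain ⟨d, hd2, hd⟩ := FiniteField.card F 2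
  have hdn : (d : ℕ) ∣ n := by
    obtain ⟨x, hx⟩ := IsCyclic.exists_monoid_generator (α := Fˣ)
    have hox : orderOf x = Fintype.card F - 1 := by
      rw [← Fintype.card_units, ← Nat.card_eq_fintype_card]
      exact orderOf_eq_card_of_forall_mem_powers hx
    have h1 : x ^ (2 ^ n - 1) = 1 := by
      refine Units.ext ?_
      rw [Units.val_pow_eq_pow_val, Units.val_one]
      refine mul_left_cancel₀ x.ne_zero ?_
      rw [← pow_succ', Nat.sub_add_cancel Nat.one_le_two_pow, mul_one, hall]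
    have h2 := orderOf_dvd_of_pow_eq_one h1
    rw [hox, hd] at h2
    have h3 := Nat.gcd_eq_left h2
    rw [Nat.pow_sub_one_gcd_pow_sub_one] at h3
    have h4 : Nat.gcd d n = d := Nat.pow_right_injective le_rfl (by
      have h5 : 1 ≤ 2 ^ (Nat.gcd d n) := Nat.one_le_two_pow
      have h6 : 1 ≤ 2 ^ (d : ℕ) := Nat.one_le_two_pow
      show 2 ^ Nat.gcd d n = 2 ^ (d : ℕ)
      omega)
    exact Nat.gcd_eq_left_iff_dvd.1 h4
  -- Sylow
  have hdvd : Nat.card P ∣ Nat.card (Cfsg.spGL 2 F) := Subgroup.card_dvd_of_le hC.le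
  obtain ⟨e₀⟩ := Forms.Max.TwoRoot.exists_spGL_equiv (F := F) 2
  rw [Nat.card_congr e₀.toEquiv, Cfsg.Agent.Classical.Symplectic.natCard_sp, Nat.card_congr e.toEquiv, CIT.card_lie_sz hm hK, ← hn] at hdvd
  simp only [Finset.prod_range_succ, Finset.prod_range_zero, one_mul, hd] at hdvd
  have hcop : Nat.Coprime ((2 ^ n) ^ 2) (((2 ^ (d : ℕ)) ^ (2 * (0 + 1)) - 1) * ((2 ^ (d : ℕ)) ^ (2 * (1 + 1)) - 1)) := by
    refine Nat.Coprime.pow_left _ (Nat.Coprime.pow_left _ (Nat.coprime_two_left.2 (Odd.mul ?_ ?_)))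
    all_goals
      rw [← pow_mul]
      exact Nat.Even.sub_odd Nat.one_le_two_pow (even_two.pow_of_ne_zero (by simp)) odd_one
  have h4 : (2 ^ n) ^ 2 ∣ (2 ^ (d : ℕ)) ^ (2 ^ 2) :=
    hcop.dvd_of_dvd_mul_right (Dvd.dvd.trans ((dvd_mul_right _ _).trans (dvd_mul_right _ _)) hdvd)
  rw [← pow_mul, ← pow_mul, Nat.pow_dvd_pow_iff_le_right (by norm_num)] at h4
  obtain ⟨t, ht⟩ := hdn
  have ht1 : t = 1 := by
    have : t ≤ 2 := by
      by_contra hc
      push Not at hc
      nlinarith [d.pos]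
    interval_cases t <;> omega
  rw [hd, ht, ht1, mul_one]

/-- the same group over the field `F` -/
theorem suzuki_equiv [Fintype F] [CharP F 2] {P : Subgroup GL4} {K : Type} [Field K] [Fintype K] {m : ℕ}
    (hK : Fintype.card K = 2 ^ (2 * m + 1)) (hF : Fintype.card F = 2 ^ (2 * m + 1))
    (e : P ≃* Cfsg.Lie.Sz K (2 ^ (m + 1))) : Nonempty (P ≃* Cfsg.Lie.Sz F (2 ^ (m + 1))) := by
  obtain ⟨ε⟩ := CIT.Graph.sz_congr (FiniteField.ringEquivOfCardEq (K := K) (K' := F) (hK.trans hF.symm)) (2 ^ (m + 1))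
  exact ⟨e.trans ε⟩

end Cfsg.Agent.SpFourEven
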