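import Cfsg.Agent.Lib.SpFourEven.Cit.Eigen

/-!
# Elements of order three and five in `Sp₄(F)`, characteristic two
-/

set_option autoImplicit false
set_option linter.unusedSectionVars false

namespace Cfsg.Agent.SpFourEven

open Matrix Cfsg.Agent.Aschbacher Cfsg.Agent.Forms.SympStd Cfsg.Agent.Forms.Max

variable {F : Type*} [Field F] [CharP F 2]

local notation "GL4" => GL (Fin 2 ⊕ Fin 2) F
local notation "Vec" => (Fin 2 ⊕ Fin 2 → F)
local notation "B" => sympB 2 F
local notation "Mat" => Matrix (Fin 2 ⊕ Fin 2) (Fin 2 ⊕ Fin 2) F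

/-- the trace of an element of order three is rational -/
theorem trace_three {g : GL4} (hg : g ∈ Cfsg.spGL 2 F) (h3 : g ^ 3 = 1) :
    Matrix.trace (g : Mat) ^ 2 = Matrix.trace (g : Mat) := by
  have h : g ^ 2 = g⁻¹ := eq_inv_of_mul_eq_one_left (by rw [← pow_succ, h3])
  rw [← trace_sq, ← Units.val_pow_eq_pow_val, h, trace_inv hg]

/-- the trace of an element of order five without fixed vectors is rational -/
theorem trace_five {g : GL4} (hg : g ∈ Cfsg.spGL 2 F) (h5 : g ^ 5 = 1)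
    (hE : (g : Mat) ^ 4 + (g : Mat) ^ 3 + (g : Mat) ^ 2 + (g : Mat) + 1 = 0) :
    Matrix.trace (g : Mat) ^ 2 = Matrix.trace (g : Mat) := by
  have h2 : (2 : F) = 0 := CharTwo.two_eq_zero
  have hi : ((g⁻¹ : GL4) : Mat) = (g : Mat) ^ 4 := by
    rw [← Units.val_pow_eq_pow_val, ← eq_inv_of_mul_eq_one_left (a := g ^ 4) (b := g) (by rw [← pow_succ, h5])]
  set G : Mat := (g : Mat) with hG
  set I : Mat := ((g⁻¹ : GL4) : Mat) with hI
  have hGI : G * I = 1 := by rw [hG, hI, ← Units.val_mul, mul_inv_cancel, Units.val_one]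
  have hIG : I * G = 1 := by rw [hG, hI, ← Units.val_mul, inv_mul_cancel, Units.val_one]
  have hII : I * I = G ^ 3 := by
    have h8 : G ^ 5 = 1 := by rw [hG, ← Units.val_pow_eq_pow_val, h5, Units.val_one]
    rw [hi, ← pow_add, show 4 + 4 = 3 + 5 from rfl, pow_add, h8, mul_one]
  have hS : (G + I) * (G + I) + (G + I) + 1 = 0 := by
    have e : (G + I) * (G + I) + (G + I) + 1 = (G ^ 4 + G ^ 3 + G ^ 2 + G + 1) + (1 + 1) := by
      rw [add_mul, mul_add, mul_add, hGI, hIG, hII, ← sq, hi]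
      abel
    rw [e, hE, CharTwo.add_self_eq_zero, add_zero]
  obtain ⟨-, e01, e02, -⟩ := inv_apply hg (0 : Fin 2) (1 : Fin 2)
  obtain ⟨-, e11, e12, -⟩ := inv_apply hg (1 : Fin 2) (0 : Fin 2)
  obtain ⟨e20, e21, e22, -⟩ := inv_apply hg (0 : Fin 2) (0 : Fin 2)
  obtain ⟨e30, e31, e32, -⟩ := inv_apply hg (1 : Fin 2) (1 : Fin 2)
  rw [← hI, ← hG] at e01 e02 e11 e12 e20 e21 e22 e30 e31 e32
  have q0 := congrFun (congrFun hS (.inl 0)) (.inl 0)
  have q1 := congrFun (congrFun hS (.inl 1)) (.inl 1)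
  simp only [Matrix.add_apply, Matrix.mul_apply, Matrix.one_apply_eq, Matrix.zero_apply, Fintype.sum_sum_type,
    Fin.sum_univ_two, e01, e02, e11, e12, e20, e21, e22, e30, e31, e32] at q0 q1
  simp only [Matrix.trace, Matrix.diag_apply, Fintype.sum_sum_type, Fin.sum_univ_two]
  linear_combination q0 + q1 + ((G (.inl 0) (.inl 0) + G (.inr 0) (.inr 0)) * (G (.inl 1) (.inl 1) + G (.inr 1) (.inr 1))
    - (G (.inl 0) (.inl 1) + I (.inl 0) (.inl 1)) * (G (.inl 1) (.inl 0) + I (.inl 1) (.inl 0))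
    - 2 * G (.inl 0) (.inr 0) * G (.inr 0) (.inl 0) - 2 * G (.inl 1) (.inr 1) * G (.inr 1) (.inl 1)
    - (G (.inl 0) (.inr 1) + G (.inl 1) (.inr 0)) * (G (.inr 1) (.inl 0) + G (.inr 0) (.inl 1))
    - 1 - (G (.inl 0) (.inl 0) + G (.inr 0) (.inr 0) + G (.inl 1) (.inl 1) + G (.inr 1) (.inr 1))) * h2

/-- an element with `u² + u + 1 = 0` and `(ux)² = 1` forces an element `x` of order five to be fixed point free -/
theorem no_fixed {u x : GL4} (hu : (u : Mat) ^ 2 + (u : Mat) + 1 = 0) (hux : u * x * (u * x) = 1)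
    (h5 : x ^ 5 = 1) {v : Vec} (hv : (x : Mat) *ᵥ v = v) : v = 0 := by
  set U : Mat := (u : Mat) with hU
  set X : Mat := (x : Mat) with hX
  have huu : ∀ w : Vec, U *ᵥ (U *ᵥ w) + U *ᵥ w + w = 0 := fun w => by
    have h := congrArg (· *ᵥ w) hu
    simp only [Matrix.add_mulVec, Matrix.one_mulVec, Matrix.zero_mulVec, sq] at h
    rwa [← Matrix.mulVec_mulVec] at h
  have hu3 : ∀ w : Vec, U *ᵥ (U *ᵥ (U *ᵥ w)) = w := fun w => by
    have h1 := congrArg (U *ᵥ ·) (huu w)
    simp only [mulVec_add, mulVec_zero] at h1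
    calc U *ᵥ (U *ᵥ (U *ᵥ w)) = U *ᵥ (U *ᵥ w) + U *ᵥ w + w + (U *ᵥ (U *ᵥ (U *ᵥ w))) := by rw [huu, zero_add]
      _ = (U *ᵥ (U *ᵥ (U *ᵥ w)) + U *ᵥ (U *ᵥ w) + U *ᵥ w) + w := by abel
      _ = w := by rw [h1, zero_add]
  have h1 : U *ᵥ (X *ᵥ (U *ᵥ v)) = v := by
    have h := congrArg (fun g : GL4 => (g : Mat) *ᵥ v) hux
    simp only [Units.val_mul, Units.val_one, Matrix.one_mulVec, ← Matrix.mulVec_mulVec] at h
    rwa [← hX, ← hU, hv] at h
  set w := U *ᵥ v with hw
  have h2 : X *ᵥ w = w + v := by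
    have h3 := congrArg (fun z => U *ᵥ (U *ᵥ z)) h1
    simp only [hu3] at h3
    rw [h3]
    calc U *ᵥ (U *ᵥ v) = U *ᵥ (U *ᵥ v) + ((w + v) + (w + v)) := by rw [CharTwo.add_self_eq_zero, add_zero]
      _ = (U *ᵥ (U *ᵥ v) + U *ᵥ v + v) + (w + v) := by rw [hw]; abel
      _ = w + v := by rw [huu, zero_add]
  have h5' : X ^ 5 *ᵥ w = w := by rw [hX, ← Units.val_pow_eq_pow_val, h5, Units.val_one, one_mulVec]
  simp only [pow_succ, pow_zero, one_mul, ← Matrix.mulVec_mulVec, h2, mulVec_add, hv] at h5'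
  have h6 : w + v + v + v + v + v = w + v := by
    rw [add_assoc (w + v) v v, CharTwo.add_self_eq_zero, add_zero, add_assoc (w + v) v v,
      CharTwo.add_self_eq_zero, add_zero]
  rw [h6] at h5'
  exact add_eq_left.1 h5'

/-- `x ↦ x² + x + 1` -/
def ee {R : Type*} [Ring R] (x : R) : R := x ^ 2 + x + 1

theorem nine_identities {R : Type*} [CommRing R] (h2 : (2 : R) = 0) {a b : R} (ha : a ^ 3 = 1) (hb : b ^ 3 = 1) :
    let e : R → R := fun x => x ^ 2 + x + 1
    let E := e a * e b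
    (∀ x, x ∈ [e a, e b, e (a * b), e (a * b ^ 2)] → x * x = x ∧ x * E = E) ∧ E * E = E ∧
      e a * e (a * b) = E ∧ e a * e (a * b ^ 2) = E ∧ e b * e (a * b) = E ∧ e b * e (a * b ^ 2) = E ∧
      e (a * b) * e (a * b ^ 2) = E ∧ e a + e b + e (a * b) + e (a * b ^ 2) = E + 1 := by
  intro e E
  have hid : ∀ x : R, x ^ 3 = 1 → e x * e x = e x := fun x hx => by
    simp only [e]; linear_combination x * hx + (x ^ 3 + x ^ 2 + x) * h2
  have hac : e a * e (a * b) = E := by simp only [e, E]; linear_combination (a * b ^ 2 + b + b ^ 2) * ha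
  have had : e a * e (a * b ^ 2) = E := by
    simp only [e, E]
    linear_combination (a * b + b ^ 2 + b) * ha + (a ^ 4 * b + a ^ 3 * b + a ^ 2 * b) * hb
  have hbc : e b * e (a * b) = E := by simp only [e, E]; linear_combination (a ^ 2 * b + a + a ^ 2) * hb
  have hbd : e b * e (a * b ^ 2) = E := by
    simp only [e, E]
    linear_combination (a ^ 2 * (b ^ 3 + 1) + a * b + a ^ 2 * b ^ 2 + a + a ^ 2 * b) * hb
  have hcd : e (a * b) * e (a * b ^ 2) = E := by
    simp only [e, E]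
    linear_combination (a + b + b ^ 2) * ha +
      (a ^ 4 * (b ^ 3 + 1) + a ^ 3 * b + a ^ 3 * b ^ 2 + a ^ 2 + a ^ 2 * b) * hb
  have hc3 : (a * b) ^ 3 = 1 := by rw [mul_pow, ha, hb, one_mul]
  have hd3 : (a * b ^ 2) ^ 3 = 1 := by rw [mul_pow, ← pow_mul, pow_mul', ha, hb]; simp
  have hEE : E * E = E := by
    show e a * e b * (e a * e b) = e a * e b
    rw [mul_mul_mul_comm, hid a ha, hid b hb]
  have haE : e a * E = E := by show e a * (e a * e b) = e a * e b; rw [← mul_assoc, hid a ha]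
  have hbE : e b * E = E := by show e b * (e a * e b) = e a * e b; rw [mul_left_comm, hid b hb]
  have hcE : e (a * b) * E = E := by
    conv_lhs => rw [show E = e a * e b from rfl]
    rw [← mul_assoc, mul_comm (e (a * b)) (e a), mul_assoc, mul_comm (e (a * b)) (e b), hbc, haE]
  have hdE : e (a * b ^ 2) * E = E := by
    conv_lhs => rw [show E = e a * e b from rfl]
    rw [← mul_assoc, mul_comm (e (a * b ^ 2)) (e a), mul_assoc, mul_comm (e (a * b ^ 2)) (e b), hbd, haE]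
  refine ⟨fun x hx => ?_, hEE, hac, had, hbc, hbd, hcd, ?_⟩
  · simp only [List.mem_cons, List.not_mem_nil, or_false] at hx
    rcases hx with rfl | rfl | rfl | rfl
    exacts [⟨hid a ha, haE⟩, ⟨hid b hb, hbE⟩, ⟨hid _ hc3, hcE⟩, ⟨hid _ hd3, hdE⟩]
  · simp only [e, E]; linear_combination (a ^ 2 * b) * hb + h2

theorem two_le_finrank_range {P : Mat} (hP : P * P = P) (hs : ∀ u v : Vec, B (P *ᵥ u) v = B u (P *ᵥ v))
    (h0 : P ≠ 0) : 2 ≤ Module.finrank F (LinearMap.range (Matrix.toLin' P)) := by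
  by_contra hc
  have hle : Module.finrank F (LinearMap.range (Matrix.toLin' P)) ≤ 1 := by omega
  obtain ⟨x₀, hx₀⟩ := finrank_le_one_iff.1 hle
  refine h0 (Matrix.toLin'.injective (LinearMap.ext fun v => ?_))
  rw [map_zero, LinearMap.zero_apply]
  refine Symp.nondeg.1 _ fun w => ?_
  obtain ⟨c, hc'⟩ := hx₀ ⟨_, LinearMap.mem_range_self (Matrix.toLin' P) v⟩
  obtain ⟨d, hd⟩ := hx₀ ⟨_, LinearMap.mem_range_self (Matrix.toLin' P) w⟩
  have hc'' : c • (x₀ : Vec) = P *ᵥ v := congrArg Subtype.val hc'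
  have hd' : d • (x₀ : Vec) = P *ᵥ w := congrArg Subtype.val hd
  have h1 : B (P *ᵥ v) w = B (P *ᵥ v) (P *ᵥ w) := by
    rw [← hs, Matrix.mulVec_mulVec, hP]
  rw [Matrix.toLin'_apply, h1, ← hc'', ← hd']
  simp [Symp.B_self]

/-- no three non-zero orthogonal self-adjoint idempotents -/
theorem three_idem {P Q R : Mat} (hP : P * P = P) (hQ : Q * Q = Q) (hR : R * R = R)
    (sP : ∀ u v : Vec, B (P *ᵥ u) v = B u (P *ᵥ v)) (sQ : ∀ u v : Vec, B (Q *ᵥ u) v = B u (Q *ᵥ v))
    (sR : ∀ u v : Vec, B (R *ᵥ u) v = B u (R *ᵥ v))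
    (hPQ : P * Q = 0) (hQP : Q * P = 0) (hPR : P * R = 0) (hRP : R * P = 0) (hQR : Q * R = 0) (hRQ : R * Q = 0)
    (p0 : P ≠ 0) (q0 : Q ≠ 0) (r0 : R ≠ 0) : False := by
  set p := LinearMap.range (Matrix.toLin' P)
  set q := LinearMap.range (Matrix.toLin' Q)
  set r := LinearMap.range (Matrix.toLin' R)
  let f : (p × q × r) →ₗ[F] Vec := p.subtype.coprod (q.subtype.coprod r.subtype)
  have hinj : Function.Injective f := by
    refine LinearMap.ker_eq_bot.1 (LinearMap.ker_eq_bot'.2 fun ⟨⟨x, hx⟩, ⟨y, hy⟩, ⟨z, hz⟩⟩ h => ?_)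
    obtain ⟨x', rfl⟩ := hx
    obtain ⟨y', rfl⟩ := hy
    obtain ⟨z', rfl⟩ := hz
    have h' : P *ᵥ x' + (Q *ᵥ y' + R *ᵥ z') = 0 := h
    have e : ∀ M : Mat, (M * P) *ᵥ x' + ((M * Q) *ᵥ y' + (M * R) *ᵥ z') = 0 := fun M => by
      rw [← Matrix.mulVec_mulVec, ← Matrix.mulVec_mulVec, ← Matrix.mulVec_mulVec, ← mulVec_add, ← mulVec_add, h',
        mulVec_zero]
    have e1 := e P
    have e2 := e Q
    have e3 := e R
    rw [hP, hPQ, hPR, zero_mulVec, zero_mulVec, add_zero, add_zero] at e1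
    rw [hQP, hQ, hQR, zero_mulVec, zero_mulVec, zero_add, add_zero] at e2
    rw [hRP, hRQ, hR, zero_mulVec, zero_mulVec, zero_add, zero_add] at e3
    exact Prod.ext (Subtype.ext e1) (Prod.ext (Subtype.ext e2) (Subtype.ext e3))
  have h := LinearMap.finrank_le_finrank_of_injective hinj
  rw [Module.finrank_prod, Module.finrank_prod, show Module.finrank F Vec = 4 by simp] at h
  have hp2 : 2 ≤ Module.finrank F p := two_le_finrank_range hP sP p0
  have hq2 : 2 ≤ Module.finrank F q := two_le_finrank_range hQ sQ q0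
  have hr2 : 2 ≤ Module.finrank F r := two_le_finrank_range hR sR r0
  omega

/-- the identities in a commuting pair of matrices -/
theorem mat_identities {A B' : Mat} (hA : A ^ 3 = 1) (hB : B' ^ 3 = 1) (h : A * B' = B' * A) :
    let E := ee A * ee B'
    (ee A * ee A = ee A ∧ ee B' * ee B' = ee B' ∧ ee (A * B') * ee (A * B') = ee (A * B') ∧
      ee (A * B' ^ 2) * ee (A * B' ^ 2) = ee (A * B' ^ 2) ∧ E * E = E) ∧
    (ee A * E = E ∧ ee B' * E = E ∧ ee (A * B') * E = E ∧ ee (A * B' ^ 2) * E = E) ∧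
    (E * ee A = E ∧ E * ee B' = E ∧ E * ee (A * B') = E ∧ E * ee (A * B' ^ 2) = E) ∧
    (ee B' * ee A = E ∧ ee A * ee (A * B') = E ∧ ee (A * B') * ee A = E ∧ ee A * ee (A * B' ^ 2) = E ∧
      ee (A * B' ^ 2) * ee A = E ∧ ee B' * ee (A * B') = E ∧ ee (A * B') * ee B' = E ∧ ee B' * ee (A * B' ^ 2) = E ∧
      ee (A * B' ^ 2) * ee B' = E ∧ ee (A * B') * ee (A * B' ^ 2) = E ∧ ee (A * B' ^ 2) * ee (A * B') = E) ∧
    ee A + ee B' + ee (A * B') + ee (A * B' ^ 2) = E + 1 := by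
  intro E
  have hcomm : ∀ x ∈ ({A, B'} : Set Mat), ∀ y ∈ ({A, B'} : Set Mat), x * y = y * x := by
    intro x hx y hy
    rcases hx with rfl | rfl <;> rcases hy with rfl | rfl
    exacts [rfl, h, h.symm, rfl]
  have main : ∀ (R : Type _) [CommRing R] (f : R →+* Mat) (a b : R), f a = A → f b = B' →
      Function.Injective f → _ := fun R _ f a b fa fb hf => by
    have ha : a ^ 3 = 1 := hf (by rw [map_pow, map_one, fa, hA])
    have hb : b ^ 3 = 1 := hf (by rw [map_pow, map_one, fb, hB])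
    have h2 : (2 : R) = 0 := hf (by rw [map_ofNat, map_zero]; exact CharTwo.two_eq_zero)
    obtain ⟨hid, hEE, hac, had, hbc, hbd, hcd, hsum⟩ := nine_identities h2 ha hb
    obtain ⟨iA, jA⟩ := hid (a ^ 2 + a + 1) (by simp)
    obtain ⟨iB, jB⟩ := hid (b ^ 2 + b + 1) (by simp)
    obtain ⟨iC, jC⟩ := hid ((a * b) ^ 2 + a * b + 1) (by simp)
    obtain ⟨iD, jD⟩ := hid ((a * b ^ 2) ^ 2 + a * b ^ 2 + 1) (by simp)
    have hba := (mul_comm (b ^ 2 + b + 1) (a ^ 2 + a + 1))
    have kA := (mul_comm _ _).trans jA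
    have kB := (mul_comm _ _).trans jB
    have kC := (mul_comm _ _).trans jC
    have kD := (mul_comm _ _).trans jD
    have hca := (mul_comm _ _).trans hac
    have hda := (mul_comm _ _).trans had
    have hcb := (mul_comm _ _).trans hbc
    have hdb := (mul_comm _ _).trans hbd
    have hdc := (mul_comm _ _).trans hcd
    have all := And.intro (And.intro iA (And.intro iB (And.intro iC (And.intro iD hEE))))
      (And.intro (And.intro jA (And.intro jB (And.intro jC jD))) (And.intro (And.intro kA (And.intro kB (And.intro kC kD)))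
        (And.intro (And.intro hba (And.intro hac (And.intro hca (And.intro had (And.intro hda (And.intro hbc
          (And.intro hcb (And.intro hbd (And.intro hdb (And.intro hcd hdc)))))))))) hsum)))
    simp only [← hf.eq_iff, map_add, map_mul, map_pow, map_one, fa, fb] at all
    exact all
  letI : CommRing (Algebra.adjoin F ({A, B'} : Set Mat)) :=
    { (inferInstance : Ring (Algebra.adjoin F ({A, B'} : Set Mat))) with
      mul_comm := fun x y => Subtype.ext
        (Algebra.commute_of_mem_adjoin_of_forall_mem_commute y.2 fun z hz =>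
          (Algebra.commute_of_mem_adjoin_of_forall_mem_commute x.2 fun w hw => hcomm z hz w hw).symm).eq }
  exact main (Algebra.adjoin F ({A, B'} : Set Mat)) (Algebra.adjoin F ({A, B'} : Set Mat)).val.toRingHom
    ⟨A, Algebra.subset_adjoin (Or.inl rfl)⟩ ⟨B', Algebra.subset_adjoin (Or.inr rfl)⟩ rfl rfl Subtype.val_injective

set_option maxHeartbeats 1000000 in
/-- in a non-cyclic group of order nine not all of `a`, `b`, `ab` have fixed vectors -/
theorem fixed_point_free {a b : GL4} (has : a ∈ Cfsg.spGL 2 F) (hbs : b ∈ Cfsg.spGL 2 F)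
    (ha : a ^ 3 = 1) (hb : b ^ 3 = 1) (hab : a * b = b * a) (a1 : a ≠ 1) (b1 : b ≠ 1) (c1 : a * b ≠ 1)
    (d1 : a * b ^ 2 ≠ 1) :
    (a : Mat) ^ 2 + (a : Mat) + 1 = 0 ∨ (b : Mat) ^ 2 + (b : Mat) + 1 = 0 ∨
      ((a * b : GL4) : Mat) ^ 2 + ((a * b : GL4) : Mat) + 1 = 0 := by
  classical
  by_contra hc
  simp only [not_or] at hc
  obtain ⟨na, nb, nc⟩ := hc
  set A : Mat := (a : Mat) with hA
  set B' : Mat := (b : Mat) with hB'
  have hA3 : A ^ 3 = 1 := by rw [hA, ← Units.val_pow_eq_pow_val, ha, Units.val_one]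
  have hB3 : B' ^ 3 = 1 := by rw [hB', ← Units.val_pow_eq_pow_val, hb, Units.val_one]
  have hAB : A * B' = B' * A := by rw [hA, hB', ← Units.val_mul, hab, Units.val_mul]
  obtain ⟨⟨miA, miB, miC, miD, mEE⟩, ⟨mjA, mjB, mjC, mjD⟩, ⟨kA, kB, kC, kD⟩,
    ⟨cba, mac, cca, mad, cda, mbc, ccb, mbd, cdb, mcd, cdc⟩, msum⟩ := mat_identities hA3 hB3 hAB
  set E : Mat := ee A * ee B' with hE
  set C : Mat := A * B' with hC
  set D : Mat := A * B' ^ 2 with hD
  have mab : ee A * ee B' = E := rfl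
  -- self-adjointness
  have hsa : ∀ g : GL4, g ∈ Cfsg.spGL 2 F → g ^ 3 = 1 → ∀ u v : Vec,
      B (ee (g : Mat) *ᵥ u) v = B u (ee (g : Mat) *ᵥ v) := by
    intro g hg h3 u v
    have h1 : ∀ u v : Vec, B ((g : Mat) *ᵥ u) v = B u ((g : Mat) ^ 2 *ᵥ v) := fun u v => by
      have h := Symp.mem_spGL_iff.1 hg u ((g : Mat) ^ 2 *ᵥ v)
      rwa [Matrix.mulVec_mulVec, ← pow_succ', ← Units.val_pow_eq_pow_val g 3, h3, Units.val_one, one_mulVec] at h
    have h4 : ((g : Mat) ^ 2) ^ 2 = (g : Mat) := by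
      rw [← pow_mul, show 2 * 2 = 3 + 1 from rfl, pow_succ, ← Units.val_pow_eq_pow_val, h3, Units.val_one, one_mul]
    have h2' : ∀ u v : Vec, B ((g : Mat) ^ 2 *ᵥ u) v = B u ((g : Mat) *ᵥ v) := fun u v => by
      rw [sq, ← Matrix.mulVec_mulVec, h1, h1, Matrix.mulVec_mulVec, ← sq, h4]
    simp only [ee, Matrix.add_mulVec, Matrix.one_mulVec, map_add, LinearMap.add_apply, h1, h2']
    abel
  have hd3 : (a * b ^ 2) ^ 3 = 1 := by
    rw [(Commute.pow_right (show Commute a b from hab) 2).mul_pow, ha, ← pow_mul, pow_mul', hb, one_pow, one_mul]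
  have hc3 : (a * b) ^ 3 = 1 := by rw [(show Commute a b from hab).mul_pow, ha, hb, one_mul]
  have sA := hsa a has ha
  have sB := hsa b hbs hb
  have sC : ∀ u v : Vec, B (ee C *ᵥ u) v = B u (ee C *ᵥ v) := by
    have h := hsa (a * b) (mul_mem has hbs) hc3
    rwa [Units.val_mul] at h
  have sD : ∀ u v : Vec, B (ee D *ᵥ u) v = B u (ee D *ᵥ v) := by
    have h := hsa (a * b ^ 2) (mul_mem has (pow_mem hbs 2)) hd3
    rwa [Units.val_mul, Units.val_pow_eq_pow_val] at h
  have sE : ∀ u v : Vec, B (E *ᵥ u) v = B u (E *ᵥ v) := fun u v => by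
    conv_rhs => rw [← cba]
    rw [hE, ← Matrix.mulVec_mulVec, ← Matrix.mulVec_mulVec, sA, sB]
  have sadd : ∀ X : Mat, (∀ u v : Vec, B (X *ᵥ u) v = B u (X *ᵥ v)) →
      ∀ u v : Vec, B ((X + E) *ᵥ u) v = B u ((X + E) *ᵥ v) := fun X hX u v => by
    simp only [Matrix.add_mulVec, map_add, LinearMap.add_apply, hX, sE]
  have fidem : ∀ X : Mat, X * X = X → X * E = E → E * X = E → (X + E) * (X + E) = X + E := by
    intro X h1 h2 h3
    rw [add_mul, mul_add, mul_add, h1, h2, h3, mEE, CharTwo.add_self_eq_zero E, add_zero]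
  have forth : ∀ X Y : Mat, X * Y = E → X * E = E → E * Y = E → (X + E) * (Y + E) = 0 := by
    intro X Y h1 h2 h3
    rw [add_mul, mul_add, mul_add, h1, h2, h3, mEE, CharTwo.add_self_eq_zero E, add_zero]
  have fE : ∀ X : Mat, X * E = E → (X + E) * E = 0 := fun X h => by
    rw [add_mul, h, mEE, CharTwo.add_self_eq_zero]
  have Ef : ∀ X : Mat, E * X = E → E * (X + E) = 0 := fun X h => by
    rw [mul_add, h, mEE, CharTwo.add_self_eq_zero]
  have ne_one : ∀ g : GL4, g ≠ 1 → ee (g : Mat) ≠ 1 := by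
    intro g hg h
    refine hg (Units.ext ?_)
    have h0 : (g : Mat) * ((g : Mat) + 1) = 0 := by
      rw [mul_add, mul_one, ← sq]
      exact add_eq_right.1 (h : (g : Mat) ^ 2 + (g : Mat) + 1 = 1)
    have h1 := congrArg (((g⁻¹ : GL4) : Mat) * ·) h0
    simp only [← mul_assoc, mul_zero, ← Units.val_mul, inv_mul_cancel, Units.val_one, one_mul] at h1
    rw [Units.val_one]
    exact CharTwo.add_eq_zero.1 h1
  have nA : ee A ≠ 0 := na
  have nB : ee B' ≠ 0 := nb
  have nC : ee C ≠ 0 := by rwa [Units.val_mul] at nc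
  by_cases hE0 : E = 0
  · rw [hE0] at mac mbc cca ccb cba mab
    exact three_idem miA miB miC sA sB sC mab cba mac cca mbc ccb nA nB nC
  have pair : ∀ X Y : Mat, X * X = X → Y * Y = Y → X * E = E → E * X = E → Y * E = E → E * Y = E →
      X * Y = E → Y * X = E → (∀ u v : Vec, B (X *ᵥ u) v = B u (X *ᵥ v)) →
      (∀ u v : Vec, B (Y *ᵥ u) v = B u (Y *ᵥ v)) → X + E = 0 ∨ Y + E = 0 := by
    intro X Y x2 y2 xe ex ye ey xy yx sx sy
    by_contra hc
    simp only [not_or] at hc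
    exact three_idem (fidem X x2 xe ex) (fidem Y y2 ye ey) mEE (sadd X sx) (sadd Y sy) sE
      (forth X Y xy xe ey) (forth Y X yx ye ex) (fE X xe) (Ef X ex) (fE Y ye) (Ef Y ey) hc.1 hc.2 hE0
  have last : ∀ X Y Z W : Mat, X + Y + Z + W = E + 1 → Y + E = 0 → Z + E = 0 → W + E = 0 → X = 1 := by
    intro X Y Z W h hY hZ hW
    rw [CharTwo.add_eq_zero] at hY hZ hW
    rw [hY, hZ, hW, add_assoc X E E, CharTwo.add_self_eq_zero, add_zero, add_comm E 1] at h
    exact add_right_cancel h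
  by_cases fA : ee A + E = 0
  · by_cases fB : ee B' + E = 0
    · by_cases fC : ee C + E = 0
      · refine ne_one (a * b ^ 2) d1 ?_
        rw [Units.val_mul, Units.val_pow_eq_pow_val]
        refine last (ee D) (ee A) (ee B') (ee C) ?_ fA fB fC
        rw [← msum]; abel
      · have fD := (pair (ee C) (ee D) miC miD mjC kC mjD kD mcd cdc sC sD).resolve_left fC
        refine ne_one (a * b) c1 ?_
        rw [Units.val_mul]
        refine last (ee C) (ee A) (ee B') (ee D) ?_ fA fB fD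
        rw [← msum]; abel
    · have fC := (pair (ee B') (ee C) miB miC mjB kB mjC kC mbc ccb sB sC).resolve_left fB
      have fD := (pair (ee B') (ee D) miB miD mjB kB mjD kD mbd cdb sB sD).resolve_left fB
      exact ne_one b b1 (last (ee B') (ee A) (ee C) (ee D) (by rw [← msum]; abel) fA fC fD)
  · have fB := (pair (ee A) (ee B') miA miB mjA kA mjB kB mab cba sA sB).resolve_left fA
    have fC := (pair (ee A) (ee C) miA miC mjA kA mjC kC mac cca sA sC).resolve_left fA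
    have fD := (pair (ee A) (ee D) miA miD mjA kA mjD kD mad cda sA sD).resolve_left fA
    exact ne_one a a1 (last (ee A) (ee B') (ee C) (ee D) msum fB fC fD)

end Cfsg.Agent.SpFourEven
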